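import Groth.Agent.EtCechLib.CechColim
import Mathlib.CategoryTheory.Abelian.GrothendieckAxioms.Basic
import Mathlib.CategoryTheory.Abelian.FunctorCategory

/-!
# Cohomology of a qcqs scheme commutes with filtered colimits of étale sheaves
-/

noncomputable section

set_option autoImplicit false
set_option backward.isDefEq.respectTransparency.types false

universe u

open CategoryTheory CategoryTheory.Limits AlgebraicGeometry Opposite CategoryTheory.Abelian

namespace Groth.Agent.EtCechLib

open Groth.Agent.EtSh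

variable {X : Scheme.{u}} [CompactSpace X] [QuasiSeparatedSpace X]

theorem top_qcqs : EtCoh.top X ∈ qcqsObj (X := X) :=
  ⟨(inferInstance : CompactSpace X), (inferInstance : QuasiSeparatedSpace X)⟩

/-- Cartan's criterion on the scheme itself -/
theorem subsingleton_H_of_cechAcyclic : ∀ (q : ℕ) (F : EtCoh.Ab X), CechAcyclic affCov F →
    Subsingleton (EtCoh.H X F (q + 1)) := by
  intro q
  induction q with
  | zero =>
    intro F hF
    let S := ShortComplex.mk (Injective.ι F) (cokernel.π (Injective.ι F)) (cokernel.condition _)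
    have hS : S.ShortExact :=
      { exact := S.exact_of_g_is_cokernel (cokernelIsCokernel _)
        mono_f := inferInstanceAs (Mono (Injective.ι F))
        epi_g := inferInstanceAs (Epi (cokernel.π (Injective.ι F))) }
    haveI : Injective S.X₂ := inferInstanceAs (Injective (Injective.under F))
    refine CohAcyc.subsingleton_one_of_lift hS
      (inferInstanceAs (Subsingleton (EtCoh.H X S.X₂ (0 + 1)))) fun s => ?_
    let hT' := EtSh.topTerminal X
    obtain ⟨a, ha⟩ := isCovSys_affCov.surjective hS hF top_qcqs (Sheaf.H.equiv₀ S.X₃ hT' (Ext.addEquiv₀.symm s))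
    refine ⟨Ext.addEquiv₀ ((Sheaf.H.equiv₀ S.X₂ hT').symm a), ?_⟩
    rw [← Sheaf.H.addEquiv₀_map]
    have := Sheaf.H.equiv₀_naturality hT' S.g ((Sheaf.H.equiv₀ S.X₂ hT').symm a)
    rw [AddEquiv.apply_symm_apply, ha] at this
    rw [← (Sheaf.H.equiv₀ S.X₃ hT').injective this, AddEquiv.apply_symm_apply]
  | succ q ih =>
    intro F hF
    let S := ShortComplex.mk (Injective.ι F) (cokernel.π (Injective.ι F)) (cokernel.condition _)
    have hS : S.ShortExact :=
      { exact := S.exact_of_g_is_cokernel (cokernelIsCokernel _)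
        mono_f := inferInstanceAs (Mono (Injective.ι F))
        epi_g := inferInstanceAs (Epi (cokernel.π (Injective.ι F))) }
    haveI : Injective S.X₂ := inferInstanceAs (Injective (Injective.under F))
    exact CohAcyc.subsingleton_succ_of_ses hS
      (ih S.X₃ (isCovSys_affCov.quot hS hF (cechAcyclic_of_injective S.X₂)))
      (inferInstanceAs (Subsingleton (EtCoh.H X S.X₂ (q + 1 + 1))))

variable {J : Type (u + 1)} [SmallCategory J]

section embedding

variable (D : J ⥤ EtCoh.Ab X)

omit [CompactSpace X] [QuasiSeparatedSpace X] in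
theorem π_congr {j i : J} {t t' : j ⟶ i} (h : t = t') :
    (Pi.π (fun p : Σ i, (j ⟶ i) => Injective.under (D.obj p.1)) ⟨i, t⟩ : _ ⟶ Injective.under (D.obj i)) =
      Pi.π (fun p : Σ i, (j ⟶ i) => Injective.under (D.obj p.1)) ⟨i, t'⟩ := by
  subst h; rfl

omit [CompactSpace X] [QuasiSeparatedSpace X] in
/-- a diagram of injective sheaves containing `D` -/
abbrev injDiag : J ⥤ EtCoh.Ab X where
  obj j := ∏ᶜ fun p : Σ i, (j ⟶ i) => Injective.under (D.obj p.1)
  map {j j'} a := Pi.lift fun p : Σ i, (j' ⟶ i) =>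
    Pi.π (fun p : Σ i, (j ⟶ i) => Injective.under (D.obj p.1)) ⟨p.1, a ≫ p.2⟩
  map_id j := Pi.hom_ext _ _ fun p => by
    obtain ⟨i, r⟩ := p
    exact (Pi.lift_π _ _).trans ((π_congr D (Category.id_comp r)).trans (Category.id_comp _).symm)
  map_comp {j j' j''} a b := Pi.hom_ext _ _ fun p => by
    obtain ⟨i, r⟩ := p
    simp only [Category.assoc, Pi.lift_π]
    all_goals exact π_congr D (Category.assoc a b r)

/-- the inclusion of `D` -/
abbrev injDiagι : D ⟶ injDiag D where
  app j := Pi.lift fun p : Σ i, (j ⟶ i) => D.map p.2 ≫ Injective.ι (D.obj p.1)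
  naturality j j' a := Pi.hom_ext _ _ fun p => by
    rw [Category.assoc, Category.assoc, Pi.lift_π, Pi.lift_π, Pi.lift_π, D.map_comp, Category.assoc]

omit [CompactSpace X] [QuasiSeparatedSpace X] in
theorem mono_injDiagι (j : J) : Mono ((injDiagι D).app j) := by
  haveI : Mono ((injDiagι D).app j ≫ Pi.π (fun p : Σ i, (j ⟶ i) => Injective.under (D.obj p.1)) ⟨j, 𝟙 j⟩) := by
    rw [Pi.lift_π, D.map_id, Category.id_comp]
    infer_instance
  exact mono_of_mono _ (Pi.π (fun p : Σ i, (j ⟶ i) => Injective.under (D.obj p.1)) ⟨j, 𝟙 j⟩)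

omit [CompactSpace X] [QuasiSeparatedSpace X] in
theorem injective_injDiag (j : J) : Injective ((injDiag D).obj j) :=
  inferInstanceAs (Injective (∏ᶜ fun p : Σ i, (j ⟶ i) => Injective.under (D.obj p.1)))

end embedding

variable [IsFiltered J]

omit [CompactSpace X] [QuasiSeparatedSpace X] in
theorem cechAcyclic_colimit {D : J ⥤ EtCoh.Ab X} {c : Cocone D} (hc : IsColimit c)
    (h : ∀ j, CechAcyclic affCov (D.obj j)) : CechAcyclic affCov c.pt := fun U ι Y hY q => by
  haveI := hY.1
  exact exact_cechComplex hc Y (qcqs_inter hY) q fun j => h j U ι Y hY q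

/-- cohomology classes of a filtered colimit come from a stage, and vanish at a stage -/
theorem exists_H_rep_and_zero : ∀ (n : ℕ) (D : J ⥤ EtCoh.Ab X),
    (∀ ξ : EtCoh.H X (colimit D) n, ∃ (j : J) (η : EtCoh.H X (D.obj j) n),
        Sheaf.H.map (colimit.ι D j) n η = ξ) ∧
    (∀ (j : J) (η : EtCoh.H X (D.obj j) n), Sheaf.H.map (colimit.ι D j) n η = 0 →
        ∃ (k : J) (a : j ⟶ k), Sheaf.H.map (D.map a) n η = 0) := by
  intro n
  induction n with
  | zero =>
    intro D
    let hT := EtSh.topTerminal X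
    haveI := (top_qcqs (X := X)).1; haveI := (top_qcqs (X := X)).2
    refine ⟨fun ξ => ?_, fun j η hη => ?_⟩
    · obtain ⟨j, r, hr⟩ := exists_sect_rep_qcqs (colimit.isColimit D) (Sheaf.H.equiv₀ (colimit D) hT ξ)
      refine ⟨j, (Sheaf.H.equiv₀ (D.obj j) hT).symm r, (Sheaf.H.equiv₀ (colimit D) hT).injective ?_⟩
      rw [← Sheaf.H.equiv₀_naturality hT (colimit.ι D j), AddEquiv.apply_symm_apply]
      exact hr
    · obtain ⟨k, a, ha⟩ := exists_sect_eq_zero (colimit.isColimit D) (Sheaf.H.equiv₀ (D.obj j) hT η)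
        ((Sheaf.H.equiv₀_naturality hT (colimit.ι D j) η).trans ((congrArg _ hη).trans (map_zero _)))
      refine ⟨k, a, (Sheaf.H.equiv₀ (D.obj k) hT).injective ?_⟩
      rw [← Sheaf.H.equiv₀_naturality hT (D.map a) η, map_zero]
      exact ha
  | succ n ih =>
    intro D
    let ev := fun j => (evaluation J (EtCoh.Ab X)).obj j
    let S := ShortComplex.mk (injDiagι D) (cokernel.π (injDiagι D)) (cokernel.condition _)
    haveI : ∀ j, Mono ((injDiagι D).app j) := mono_injDiagι D
    haveI : Mono (injDiagι D) := NatTrans.mono_of_mono_app _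
    have hS : S.ShortExact :=
      { exact := S.exact_of_g_is_cokernel (cokernelIsCokernel _)
        mono_f := inferInstanceAs (Mono (injDiagι D))
        epi_g := inferInstanceAs (Epi (cokernel.π (injDiagι D))) }
    have hj := fun j => hS.map_of_exact (ev j)
    haveI hIj : ∀ j, Injective (S.X₂.obj j) := injective_injDiag D
    let T := S.map (colim : (J ⥤ EtCoh.Ab X) ⥤ EtCoh.Ab X)
    have hT : T.ShortExact := hS.map_of_exact colim
    let φ : ∀ j, S.map (ev j) ⟶ T := fun j =>
      { τ₁ := colimit.ι S.X₁ j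
        τ₂ := colimit.ι S.X₂ j
        τ₃ := colimit.ι S.X₃ j
        comm₁₂ := ι_colimMap S.f j
        comm₂₃ := ι_colimMap S.g j }
    have hI : Subsingleton (EtCoh.H X T.X₂ (n + 1)) := subsingleton_H_of_cechAcyclic n _
      (cechAcyclic_colimit (colimit.isColimit S.X₂) fun j => cechAcyclic_of_injective (S.X₂.obj j))
    have key : ∀ j (η : EtCoh.H X (S.X₃.obj j) n),
        Sheaf.H.map (colimit.ι D j) (n + 1) (η.comp (hj j).extClass rfl) =
          (Sheaf.H.map (colimit.ι S.X₃ j) n η).comp hT.extClass rfl := fun j η => by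
      rw [Sheaf.H.map_apply, Sheaf.H.map_apply]
      exact ((Ext.comp_assoc_of_third_deg_zero η (hj j).extClass (Ext.mk₀ (φ j).τ₁) rfl).trans
        (congrArg (fun e => η.comp e rfl) ((hj j).extClass_naturality hT (φ j)))).trans
        (Ext.comp_assoc_of_second_deg_zero η (Ext.mk₀ (φ j).τ₃) hT.extClass rfl).symm
    have nat : ∀ j k (a : j ⟶ k) (η : EtCoh.H X (S.X₃.obj j) n),
        Sheaf.H.map (D.map a) (n + 1) (η.comp (hj j).extClass rfl) =
          (Sheaf.H.map (S.X₃.map a) n η).comp (hj k).extClass rfl := fun j k a η => by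
      let ψ : S.map (ev j) ⟶ S.map (ev k) := S.mapNatTrans ((evaluation J (EtCoh.Ab X)).map a)
      rw [Sheaf.H.map_apply, Sheaf.H.map_apply]
      exact ((Ext.comp_assoc_of_third_deg_zero η (hj j).extClass (Ext.mk₀ ψ.τ₁) rfl).trans
        (congrArg (fun e => η.comp e rfl) ((hj j).extClass_naturality (hj k) ψ))).trans
        (Ext.comp_assoc_of_second_deg_zero η (Ext.mk₀ ψ.τ₃) (hj k).extClass rfl).symm
    refine ⟨fun ξ => ?_, fun j ξ hξ => ?_⟩
    · obtain ⟨η, hη⟩ := Ext.covariant_sequence_exact₁ _ hT ξ (Subsingleton.elim (h := hI) _ _) rfl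
      obtain ⟨j, ηj, rfl⟩ := (ih S.X₃).1 η
      exact ⟨j, ηj.comp (hj j).extClass rfl, (key j ηj).trans hη⟩
    · obtain ⟨η, rfl⟩ := Ext.covariant_sequence_exact₁ _ (hj j) ξ
        (Subsingleton.elim (h := inferInstanceAs (Subsingleton (EtCoh.H X (S.X₂.obj j) (n + 1)))) _ _) rfl
      obtain ⟨θ, hθ⟩ := Ext.covariant_sequence_exact₃ _ hT (Sheaf.H.map (colimit.ι S.X₃ j) n η) rfl
        ((key j η).symm.trans hξ)
      obtain ⟨k, θk, rfl⟩ := (ih S.X₂).1 θ
      let M := IsFiltered.max j k
      let a : j ⟶ M := IsFiltered.leftToMax j k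
      let b : k ⟶ M := IsFiltered.rightToMax j k
      have h0 : Sheaf.H.map (colimit.ι S.X₃ M) n
          (Sheaf.H.map (S.X₃.map a) n η - Sheaf.H.map (S.g.app M) n (Sheaf.H.map (S.X₂.map b) n θk)) = 0 := by
        rw [map_sub, sub_eq_zero, ← Sheaf.H.map_comp_apply, colimit.w, ← Sheaf.H.map_comp_apply,
          ← Sheaf.H.map_comp_apply, ← ι_colimMap S.g M, colimit.w_assoc, Sheaf.H.map_comp_apply]
        exact hθ.symm
      obtain ⟨L, r, hr⟩ := (ih S.X₃).2 M _ h0
      refine ⟨L, a ≫ r, (nat j L (a ≫ r) η).trans ?_⟩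
      rw [map_sub, sub_eq_zero, ← Sheaf.H.map_comp_apply, ← S.X₃.map_comp, ← Sheaf.H.map_comp_apply,
        ← S.g.naturality r, Sheaf.H.map_comp_apply] at hr
      rw [hr, Sheaf.H.map_apply]
      exact (Ext.comp_assoc_of_second_deg_zero _ (Ext.mk₀ (S.g.app L)) (hj L).extClass rfl).trans
        ((congrArg (fun e => Ext.comp _ e rfl) (hj L).comp_extClass).trans (Ext.comp_zero _ _ _ _ _))

theorem preservesColimitsOfShape_HF (n : ℕ) : PreservesColimitsOfShape J (EtCoh.HF X n) :=
  ⟨fun {D} => preservesColimit_of_preserves_colimit_cocone (colimit.isColimit D)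
    (isColimitOfRepZero _ (fun x => (exists_H_rep_and_zero n D).1 x)
      (fun j y hy => (exists_H_rep_and_zero n D).2 j y hy))⟩

end Groth.Agent.EtCechLib
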