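import Groth.Agent.EtCechLib.Cartan
import Groth.Agent.EtSh.SectionsColim
import Groth.Prelude.Def_EtBase

/-!
# The torsion part of an injective sheaf is Čech acyclic on quasi-compact quasi-separated objects
-/

noncomputable section

set_option autoImplicit false
set_option backward.isDefEq.respectTransparency.types false

universe u

open CategoryTheory CategoryTheory.Limits AlgebraicGeometry Opposite CategoryTheory.Abelian

namespace Groth.Agent.EtCechLib

open Groth.Agent.EtSh

variable {X : Scheme.{u}}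

theorem injective_isOfFinAddOrder_iff {A B : Type*} [AddCommGroup A] [AddCommGroup B] {f : A →+ B}
    (hf : Function.Injective f) {a : A} : IsOfFinAddOrder (f a) ↔ IsOfFinAddOrder a := by
  simp only [isOfFinAddOrder_iff_nsmul_eq_zero, ← map_nsmul, map_eq_zero_iff f hf]

/-- qcqs étale objects -/
def qcqsObj : Set X.Etale := {U | CompactSpace U.left ∧ QuasiSeparatedSpace U.left}

/-- finite affine coverings of qcqs objects -/
def affCov (U : X.Etale) (ι : Type (u + 1)) (Y : ι → Over U) : Prop :=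
  Finite ι ∧ U ∈ qcqsObj ∧ (∀ i, IsAffine (Y i).left.left) ∧
    Sieve.ofArrows (fun i => (Y i).left) (fun i => (Y i).hom) ∈ X.smallEtaleTopology U

theorem qcqs_of_hom {U : X.Etale} (hU : U ∈ qcqsObj) {V : X.Etale} (f : V ⟶ U)
    (h : QuasiCompact f.left ∧ QuasiSeparated f.left) : V ∈ qcqsObj := by
  haveI := hU.1; haveI := hU.2; haveI := h.1; haveI := h.2
  exact ⟨QuasiCompact.compactSpace_of_compactSpace f.left, quasiSeparatedSpace_of_quasiSeparated f.left⟩

/-- finite products over `U` of quasi-compact quasi-separated objects over `U` -/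
theorem qc_inter {U : X.Etale} {ι : Type (u + 1)} (Y : ι → Over U)
    (h : ∀ i, QuasiCompact (Y i).hom.left ∧ QuasiSeparated (Y i).hom.left) :
    ∀ (n : ℕ) (a : Fin (n + 1) → ι), QuasiCompact (inter Y n a).hom.left ∧ QuasiSeparated (inter Y n a).hom.left := by
  intro n
  induction n with
  | zero =>
    intro a
    let π := Pi.π (fun k => Y (a k)) 0
    let e : inter Y 0 a ≅ Y (a 0) :=
      { hom := π
        inv := Pi.lift fun k => eqToHom (by rw [Fin.fin_one_eq_zero k])
        hom_inv_id := Pi.hom_ext _ _ fun k => by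
          obtain rfl := (Fin.fin_one_eq_zero k).symm
          simp [π]
        inv_hom_id := by simp [π] }
    haveI : IsIso e.hom := Iso.isIso_hom e
    haveI : IsIso e.hom.left.left :=
      Functor.map_isIso (Over.forget U ⋙ Scheme.Etale.forget X ⋙ Over.forget X) e.hom
    haveI := (h (a 0)).1; haveI := (h (a 0)).2
    have he : (inter Y 0 a).hom.left = e.hom.left.left ≫ (Y (a 0)).hom.left :=
      (congrArg (fun k => k.left) (Over.w e.hom)).symm
    rw [he]
    exact ⟨inferInstance, inferInstance⟩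
  | succ n ih =>
    intro a
    let Z := inter Y n fun k => a k.succ
    let P := pullback (Y (a 0)).hom Z.hom
    let O : Over U := Over.mk (pullback.fst (Y (a 0)).hom Z.hom ≫ (Y (a 0)).hom)
    let toO : inter Y (n + 1) a ⟶ O :=
      Over.homMk (pullback.lift (Pi.π (fun k => Y (a k)) 0).left
        (Pi.lift fun k => Pi.π (fun k => Y (a k)) k.succ : inter Y (n + 1) a ⟶ Z).left
        (by rw [Over.w, Over.w])) ((pullback.lift_fst_assoc _ _ _ _).trans (Over.w _))
    let froO : O ⟶ inter Y (n + 1) a := Pi.lift (Fin.cases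
      (Over.homMk (pullback.fst (Y (a 0)).hom Z.hom) rfl)
      (fun k => (Over.homMk (pullback.snd (Y (a 0)).hom Z.hom) pullback.condition.symm : O ⟶ Z) ≫
        Pi.π (fun k => Y (a k.succ)) k))
    let e : inter Y (n + 1) a ≅ O :=
      { hom := toO
        inv := froO
        hom_inv_id := Pi.hom_ext _ _ fun k => by
          induction k using Fin.cases with
          | zero =>
            refine Over.OverMorphism.ext ?_
            simp only [toO, froO, Category.assoc, Category.id_comp, Pi.lift_π, Fin.cases_zero, Over.comp_left,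
              Over.homMk_left]
            exact pullback.lift_fst _ _ _
          | succ k =>
            ext
            simp only [toO, froO, Category.assoc, Category.id_comp, Pi.lift_π, Fin.cases_succ, Over.comp_left,
              Over.homMk_left, pullback.lift_snd_assoc]
            rw [← Over.comp_left, Pi.lift_π]
        inv_hom_id := by
          refine Over.OverMorphism.ext (pullback.hom_ext ?_ ?_)
          · show (froO ≫ toO).left ≫ _ = _
            simp only [toO, Over.comp_left, Over.homMk_left, Category.assoc, pullback.lift_fst, Over.id_left,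
              Category.id_comp]
            rw [← Over.comp_left, Pi.lift_π]
            rfl
          · show (froO ≫ toO).left ≫ _ = _
            simp only [toO, Over.comp_left, Over.homMk_left, Category.assoc, pullback.lift_snd, Over.id_left,
              Category.id_comp]
            rw [← Over.comp_left]
            have : froO ≫ (Pi.lift fun k => Pi.π (fun k => Y (a k)) k.succ : inter Y (n + 1) a ⟶ Z) =
                Over.homMk (pullback.snd (Y (a 0)).hom Z.hom) pullback.condition.symm :=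
              Pi.hom_ext _ _ fun k => by
                rw [Category.assoc, Pi.lift_π, Pi.lift_π, Fin.cases_succ]
            rw [this]
            rfl }
    haveI : IsIso e.hom := Iso.isIso_hom e
    haveI : IsIso e.hom.left.left :=
      Functor.map_isIso (Over.forget U ⋙ Scheme.Etale.forget X ⋙ Over.forget X) e.hom
    let F := Scheme.Etale.forget X ⋙ Over.forget X
    have hsq := (IsPullback.of_hasPullback (Y (a 0)).hom Z.hom).map F
    have hfst : QuasiCompact (F.map (pullback.fst (Y (a 0)).hom Z.hom)) ∧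
        QuasiSeparated (F.map (pullback.fst (Y (a 0)).hom Z.hom)) :=
      ⟨MorphismProperty.of_isPullback (P := @QuasiCompact) hsq.flip (ih fun k => a k.succ).1,
        MorphismProperty.of_isPullback (P := @QuasiSeparated) hsq.flip (ih fun k => a k.succ).2⟩
    haveI : QuasiCompact (pullback.fst (Y (a 0)).hom Z.hom).left := hfst.1
    haveI : QuasiSeparated (pullback.fst (Y (a 0)).hom Z.hom).left := hfst.2
    haveI := (h (a 0)).1; haveI := (h (a 0)).2
    have he : (inter Y (n + 1) a).hom.left =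
        e.hom.left.left ≫ (pullback.fst (Y (a 0)).hom Z.hom).left ≫ (Y (a 0)).hom.left :=
      (congrArg (fun k => k.left) (Over.w e.hom)).symm
    rw [he]
    exact ⟨inferInstance, inferInstance⟩

theorem qcqs_inter {U : X.Etale} {ι : Type (u + 1)} {Y : ι → Over U} (h : affCov U ι Y) (n : ℕ)
    (a : Fin (n + 1) → ι) : (inter Y n a).left ∈ qcqsObj := by
  obtain ⟨-, hU, hA, -⟩ := h
  refine qcqs_of_hom hU (inter Y n a).hom (qc_inter Y (fun i => ?_) n a)
  haveI := hU.1; haveI := hU.2; haveI := hA i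
  exact ⟨quasiCompact_of_compactSpace _, QuasiSeparated.of_quasiSeparatedSpace _⟩

/-- finite affine coverings form a covering system -/
theorem isCovSys_affCov : IsCovSys (X := X) qcqsObj affCov where
  mem U ι Y h := ⟨h.2.2.2, qcqs_inter h⟩
  cofinal U hU T hT := by
    classical
    haveI := hU.1
    have key : ∀ x : U.left, ∃ (A : X.Etale) (g : A ⟶ U) (z : A.left),
        IsAffine A.left ∧ T g ∧ g.left.base z = x := fun x => by
      obtain ⟨W, g, w, hg, hw⟩ := (mem_topology_iff T).1 hT x
      obtain ⟨Ω, _, _, ξ, hξ⟩ := exists_geometric_point (W.hom.base w)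
      obtain ⟨t, ht⟩ := exists_fib (ξ := ξ) w (Set.eq_of_mem_singleton (hξ.le ⟨default, rfl⟩)).symm
      obtain ⟨A, e, ta, hA, hta⟩ := exists_affine_nbhd t
      refine ⟨A, e ≫ g, fpt ta, hA, T.downward_closed hg e, ?_⟩
      rw [← hw, ← ht, ← hta]
      rfl
    choose A g z hA hg hz using key
    obtain ⟨s, hs⟩ := CompactSpace.isCompact_univ.elim_finite_subcover (fun x => Set.range (g x).left.base)
      (fun x => (etale_left (g x) |> fun _ => (g x).left.isOpenMap.isOpen_range))
      fun x _ => Set.mem_iUnion.2 ⟨x, z x, hz x⟩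
    refine ⟨ULift.{u + 1} s, fun i => Over.mk (g i.down.1), ⟨inferInstance, hU, fun i => hA _, ?_⟩, fun i => hg _⟩
    refine (mem_topology_iff _).2 fun y => ?_
    obtain ⟨x, hx, w, hw⟩ := Set.mem_iUnion₂.1 (hs (Set.mem_univ y))
    exact ⟨A x, g x, w, Sieve.ofArrows_mk (fun i : ULift.{u + 1} s => A i.down.1) (fun i => g i.down.1) ⟨⟨x, hx⟩⟩, hw⟩

/-- the germ of `s` is torsion everywhere -/
def GermTors (I : EtCoh.Ab X) {U : X.Etale} (s : EtCoh.sect I U) : Prop :=
  ∀ (Ω : Type u) [Field Ω] [IsSepClosed Ω] (ξ : Spec (CommRingCat.of Ω) ⟶ X) (t : Fib ξ U),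
    IsOfFinAddOrder (germ ξ I t s)

theorem GermTors.map {I : EtCoh.Ab X} {U V : X.Etale} (g : V ⟶ U) {s : EtCoh.sect I U} (hs : GermTors I s) :
    GermTors I (I.obj.map g.op s) := fun Ω _ _ ξ t => by
  rw [germ_map]; exact hs Ω ξ _

/-- the torsion part as a presheaf -/
def torPre (I : EtCoh.Ab X) : X.Etaleᵒᵖ ⥤ AddCommGrpCat.{u + 1} where
  obj U := AddCommGrpCat.of
    ({ carrier := {s | GermTors I (U := U.unop) s}
       zero_mem' := fun Ω _ _ ξ t => by rw [map_zero]; exact IsOfFinAddOrder.zero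
       add_mem' := fun {a b} ha hb Ω _ _ ξ t => by rw [map_add]; exact (ha Ω ξ t).add (hb Ω ξ t)
       neg_mem' := fun {a} ha Ω _ _ ξ t => by rw [map_neg]; exact (ha Ω ξ t).neg } : AddSubgroup (I.obj.obj U))
  map g := AddCommGrpCat.ofHom
    { toFun := fun s => ⟨I.obj.map g s.1, GermTors.map g.unop s.2⟩
      map_zero' := Subtype.ext (map_zero _)
      map_add' := fun a b => Subtype.ext (map_add _ _ _) }
  map_id U := AddCommGrpCat.hom_ext (AddMonoidHom.ext fun s => Subtype.ext (by simp))
  map_comp g h := AddCommGrpCat.hom_ext (AddMonoidHom.ext fun s => Subtype.ext (by simp))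

theorem isSheaf_torPre (I : EtCoh.Ab X) : Presheaf.IsSheaf X.smallEtaleTopology (torPre I) := by
  rw [Presheaf.isSheaf_iff_isSheaf_forget X.smallEtaleTopology (torPre I) (forget AddCommGrpCat.{u + 1}),
    isSheaf_iff_isSheaf_of_type]
  intro U S hS
  have hI := ((isSheaf_iff_isSheaf_of_type _ _).1
    ((sheafCompose _ (forget AddCommGrpCat.{u + 1})).obj I).property) S hS
  intro x hx
  let x' : Presieve.FamilyOfElements (I.obj ⋙ forget AddCommGrpCat.{u + 1}) (S : Presieve U) :=
    fun V g hg => (x g hg).1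
  obtain ⟨t, ht, huniq⟩ := hI x' fun Y₁ Y₂ Z g₁ g₂ f₁ f₂ h₁ h₂ e => congrArg Subtype.val (hx g₁ g₂ h₁ h₂ e)
  have htor : GermTors I t := fun Ω _ _ ξ p => by
    obtain ⟨W, g, w, hg, hw⟩ := (mem_topology_iff S).1 hS (fpt p)
    obtain ⟨p', hp'⟩ := exists_fib_map g w p hw
    have := (x g hg).2 Ω ξ p'
    rw [show (x g hg).1 = I.obj.map g.op t from (ht g hg).symm, germ_map, hp'] at this
    exact this
  exact ⟨⟨t, htor⟩, fun V g hg => Subtype.ext (ht g hg),
    fun t' ht' => Subtype.ext (huniq t'.1 fun V g hg => congrArg Subtype.val (ht' g hg))⟩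

/-- the torsion part -/
def tor (I : EtCoh.Ab X) : EtCoh.Ab X := ⟨torPre I, isSheaf_torPre I⟩

/-- its inclusion -/
def torι (I : EtCoh.Ab X) : tor I ⟶ I :=
  ⟨{ app := fun U => AddCommGrpCat.ofHom
       { toFun := fun s => s.1, map_zero' := rfl, map_add' := fun _ _ => rfl }
     naturality := fun _ _ _ => rfl }⟩

theorem torι_injective (I : EtCoh.Ab X) (U : X.Etaleᵒᵖ) : Function.Injective ((torι I).hom.app U) :=
  fun _ _ h => Subtype.ext h

instance mono_torι (I : EtCoh.Ab X) : Mono (torι I) :=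
  mono_of_stalk _ fun Ω _ _ ξ a b h => by
    rw [← sub_eq_zero] at h ⊢
    rw [← map_sub] at h
    obtain ⟨U, t, s, hs⟩ := germ_surjective (tor I) (a - b)
    rw [← hs] at h ⊢
    rw [stalk_map_germ, germ_eq_zero_iff] at h
    obtain ⟨W, g, w, hw, e⟩ := h
    exact (germ_eq_zero_iff _ _ _).2 ⟨W, g, w, hw,
      torι_injective I (op W) ((NatTrans.naturality_apply (torι I).hom g.op s).trans (e.trans (map_zero _).symm))⟩

theorem germTors_of_isTorsion {F : EtCoh.Ab X} (hF : EtCoh.IsTorsion F) {U : X.Etale} (s : EtCoh.sect F U) :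
    GermTors F s := fun Ω _ _ ξ t => by
  obtain ⟨V, g, ⟨v, hv⟩, hn⟩ := hF U s (fpt t)
  obtain ⟨t', ht'⟩ := exists_fib_map g v t hv
  rw [← ht', ← germ_map]
  exact (germ ξ F t').hom.isOfFinAddOrder hn

theorem isTorsion_of_germTors {F : EtCoh.Ab X} (h : ∀ (U : X.Etale) (s : EtCoh.sect F U), GermTors F s) :
    EtCoh.IsTorsion F := fun U s x => by
  obtain ⟨Ω, _, _, ξ, hξ⟩ := exists_geometric_point (U.hom.base x)
  obtain ⟨t, ht⟩ := exists_fib (ξ := ξ) x (Set.eq_of_mem_singleton (hξ.le ⟨default, rfl⟩)).symm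
  obtain ⟨n, hn, e⟩ := isOfFinAddOrder_iff_nsmul_eq_zero.1 (h U s Ω ξ t)
  rw [← map_nsmul, germ_eq_zero_iff] at e
  obtain ⟨W, g, w, hw, e⟩ := e
  exact ⟨W, g, ⟨w, hw.trans ht⟩, isOfFinAddOrder_iff_nsmul_eq_zero.2 ⟨n, hn, by rw [← map_nsmul]; exact e⟩⟩

/-- over a quasi-compact object a germwise torsion section is torsion -/
theorem GermTors.isOfFinAddOrder {I : EtCoh.Ab X} {U : X.Etale} [CompactSpace U.left] {s : EtCoh.sect I U}
    (hs : GermTors I s) : IsOfFinAddOrder s := by
  classical
  have key : ∀ x : U.left, ∃ (n : ℕ) (W : X.Etale) (g : W ⟶ U), 0 < n ∧ x ∈ Set.range g.left.base ∧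
      I.obj.map g.op (n • s) = 0 := fun x => by
    obtain ⟨Ω, _, _, ξ, hξ⟩ := exists_geometric_point (U.hom.base x)
    obtain ⟨t, rfl⟩ := exists_fib (ξ := ξ) x (Set.eq_of_mem_singleton (hξ.le ⟨default, rfl⟩)).symm
    obtain ⟨n, hn, e⟩ := isOfFinAddOrder_iff_nsmul_eq_zero.1 (hs Ω ξ t)
    rw [← map_nsmul, germ_eq_zero_iff] at e
    obtain ⟨W, g, w, hw, e⟩ := e
    exact ⟨n, W, g, hn, ⟨w, hw⟩, e⟩
  choose n W g hn hx he using key
  obtain ⟨t, ht⟩ := CompactSpace.isCompact_univ.elim_finite_subcover (fun x => Set.range (g x).left.base)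
    (fun x => (etale_left (g x) |> fun _ => (g x).left.isOpenMap.isOpen_range))
    fun x _ => Set.mem_iUnion.2 ⟨x, hx x⟩
  refine isOfFinAddOrder_iff_nsmul_eq_zero.2 ⟨∏ x ∈ t, n x, Finset.prod_pos fun x _ => hn x, ?_⟩
  refine sect_ext I fun y => ?_
  obtain ⟨x, hxt, w, hw⟩ := Set.mem_iUnion₂.1 (ht (Set.mem_univ y))
  refine ⟨W x, g x, w, hw, ?_⟩
  obtain ⟨c, hc⟩ := Finset.dvd_prod_of_mem n hxt
  rw [map_zero, hc, mul_comm, mul_nsmul', map_nsmul, he, nsmul_zero]

/-- sections of injective sheaves are divisible -/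
theorem exists_nsmul_eq (I : EtCoh.Ab X) [Injective I] (U : X.Etale) {n : ℕ} (hn : 0 < n)
    (s : I.obj.obj (op U)) : ∃ r, n • r = s := by
  haveI : Etale U.hom := U.prop
  haveI : EtShriek.JCont U.hom := jCont_hom U
  let I' := (EtShriek.restrAlong U.hom).obj I
  haveI : Injective I' := injective_restr U I
  let M := constantSheaf U.left.smallEtaleTopology AddCommGrpCat.{u + 1}
  let m : AddCommGrpCat.of (ULift.{u + 1} ℤ) ⟶ AddCommGrpCat.of (ULift.{u + 1} ℤ) :=
    AddCommGrpCat.ofHom (n • AddMonoidHom.id _)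
  haveI : Mono m := (AddCommGrpCat.mono_iff_injective m).2 fun a b h => by
    have h' : n • a.down = n • b.down := congrArg ULift.down h
    exact ULift.ext _ _ ((nsmul_right_injective hn.ne') h')
  haveI : Mono (M.map m) := by
    haveI : Mono ((Functor.const U.left.Etaleᵒᵖ).map m) :=
      NatTrans.mono_of_mono_app _
    exact (presheafToSheaf U.left.smallEtaleTopology AddCommGrpCat.{u + 1}).map_mono
      ((Functor.const U.left.Etaleᵒᵖ).map m)
  let k : (EtShriek.compEtale U.hom).obj (EtCoh.top U.left) ≅ U :=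
    MorphismProperty.Over.isoMk (Iso.refl _) ((Category.id_comp _).trans (Category.id_comp _).symm)
  let e := Sheaf.H.equiv₀ I' (topTerminal U.left)
  let φ : M.obj (AddCommGrpCat.of (ULift.{u + 1} ℤ)) ⟶ I' := Ext.addEquiv₀ (e.symm (I.obj.map k.hom.op s))
  let ψ := Injective.factorThru φ (M.map m)
  refine ⟨I.obj.map k.inv.op (e (Ext.addEquiv₀.symm ψ)), ?_⟩
  have hm : M.map m ≫ ψ = n • ψ := by
    let ε := (constantSheafAdj U.left.smallEtaleTopology AddCommGrpCat.{u + 1} (topTerminal U.left))
    apply (ε.homAddEquiv _ I').injective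
    rw [map_nsmul]
    show ε.homEquiv _ I' (M.map m ≫ ψ) = _
    rw [Adjunction.homEquiv_naturality_left]
    refine AddCommGrpCat.hom_ext (AddMonoidHom.ext fun z => ?_)
    show (ε.homEquiv _ I' ψ).hom (n • z) = n • (ε.homEquiv _ I' ψ).hom z
    exact map_nsmul _ _ _
  have h2 : n • e (Ext.addEquiv₀.symm ψ) = I.obj.map k.hom.op s := by
    rw [← map_nsmul, ← map_nsmul, ← hm, Injective.comp_factorThru]
    simp [φ]
  refine ((map_nsmul (I.obj.map k.inv.op).hom n _).symm.trans (congrArg (I.obj.map k.inv.op) h2)).trans ?_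
  rw [← ConcreteCategory.comp_apply, ← I.obj.map_comp, ← op_comp, k.inv_hom_id, op_id, I.obj.map_id]
  rfl

theorem val_nsmul {U : X.Etale} {ι : Type (u + 1)} (Y : ι → Over U) (P : X.Etaleᵒᵖ ⥤ AddCommGrpCat.{u + 1})
    (n q : ℕ) (a : Fin (q + 1) → ι) (x : ((EtCech.cechComplex Y P).X q : AddCommGrpCat.{u + 1})) :
    val Y P q a (n • x) = n • val Y P q a x := map_nsmul _ _ _

/-- the torsion part of an injective is Čech acyclic -/
theorem cechAcyclic_tor (I : EtCoh.Ab X) [Injective I] : CechAcyclic affCov (tor I) := by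
  intro U ι Y hY q
  haveI : Finite ι := hY.1
  let K := EtCech.cechComplex Y (tor I).obj
  let L := EtCech.cechComplex Y I.obj
  let f : K ⟶ L := cxMap Y (torι I).hom
  have hf : ∀ m, Function.Injective (f.f m) := fun m x y h => (val_bijective Y _ m).1 (funext fun a =>
    torι_injective I _ ((val_map Y (torι I).hom m a x).symm.trans
      ((congrArg (val Y I.obj m a) h).trans (val_map Y (torι I).hom m a y))))
  have htor : ∀ m (x : K.X m), IsOfFinAddOrder (f.f m x) := fun m x => by
    have : ∀ a, IsOfFinAddOrder (val Y I.obj m a (f.f m x)) := fun a => by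
      haveI := (qcqs_inter hY m a).1
      refine (show GermTors I _ from ?_).isOfFinAddOrder
      rw [show val Y I.obj m a (f.f m x) = (val Y (tor I).obj m a x).1 from val_map Y (torι I).hom m a x]
      exact (val Y (tor I).obj m a x).2
    choose k hk hk' using fun a => isOfFinAddOrder_iff_nsmul_eq_zero.1 (this a)
    haveI := Fintype.ofFinite (Fin (m + 1) → ι)
    refine isOfFinAddOrder_iff_nsmul_eq_zero.2 ⟨∏ a, k a, Finset.prod_pos fun a _ => hk a, ?_⟩
    refine (val_bijective Y I.obj m).1 (funext fun a => ?_)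
    obtain ⟨c, hc⟩ := Finset.dvd_prod_of_mem k (Finset.mem_univ a)
    show val Y I.obj m a _ = val Y I.obj m a 0
    rw [map_zero, val_nsmul, hc, mul_comm, mul_nsmul', hk', nsmul_zero]
  have hsurj : ∀ m (y : L.X m), IsOfFinAddOrder y → ∃ x, f.f m x = y := fun m y hy => by
    have ht : ∀ a, GermTors I (val Y I.obj m a y) := fun a Ω _ _ ξ t =>
      ((germ ξ I t).hom.comp (val Y I.obj m a)).isOfFinAddOrder hy
    obtain ⟨x, hx⟩ := (val_bijective Y (tor I).obj m).2 fun a => ⟨_, ht a⟩
    exact ⟨x, (val_bijective Y I.obj m).1 (funext fun a => (val_map Y (torι I).hom m a x).trans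
      (congrArg Subtype.val (congrFun hx a)))⟩
  have hL : ∀ m, L.ExactAt (m + 1) := fun m =>
    (HomologicalComplex.exactAt_iff_isZero_homology _ _).2 (cechAcyclic_of_injective I U ι Y hY m)
  refine HomologicalComplex.ExactAt.isZero_homology ?_
  rw [HomologicalComplex.exactAt_iff' _ q (q + 1) (q + 2) (CochainComplex.prev_nat_succ q) (CochainComplex.next ℕ (q + 1)),
    ShortComplex.ab_exact_iff]
  intro x hx
  replace hx : K.d (q + 1) (q + 2) x = 0 := hx
  have hfx : L.d (q + 1) (q + 2) (f.f (q + 1) x) = 0 := by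
    rw [← ConcreteCategory.comp_apply, f.comm, ConcreteCategory.comp_apply, hx, map_zero]
  have exL : ∀ m (y : L.X (m + 1)), L.d (m + 1) (m + 2) y = 0 → ∃ b, L.d m (m + 1) b = y := fun m y hy => by
    have := hL m
    rw [HomologicalComplex.exactAt_iff' _ m (m + 1) (m + 2) (CochainComplex.prev_nat_succ m) (CochainComplex.next ℕ (m + 1)),
      ShortComplex.ab_exact_iff] at this
    exact this y hy
  obtain ⟨b, hb⟩ := exL q _ hfx
  obtain ⟨n, hn, hnx⟩ := isOfFinAddOrder_iff_nsmul_eq_zero.1 (htor (q + 1) x)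
  have hnb : L.d q (q + 1) (n • b) = 0 := by rw [map_nsmul, hb, hnx]
  obtain ⟨c, hc0, hc⟩ : ∃ c, L.d q (q + 1) c = 0 ∧ n • c = n • b := by
    cases q with
    | succ m =>
      obtain ⟨e, he⟩ := exL m _ hnb
      have hdiv : ∀ a, ∃ r, n • r = val Y I.obj m a e := fun a => exists_nsmul_eq I _ hn _
      choose r hr using hdiv
      obtain ⟨e', he'⟩ := (val_bijective Y I.obj m).2 r
      refine ⟨L.d m (m + 1) e', by rw [← ConcreteCategory.comp_apply, HomologicalComplex.d_comp_d]; rfl, ?_⟩
      rw [← map_nsmul, ← he]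
      congr 1
      exact (val_bijective Y I.obj m).1 (funext fun a => (val_nsmul Y I.obj n m a e').trans
        ((congrArg (n • ·) (congrFun he' a)).trans (hr a)))
    | zero =>
      obtain ⟨s, hs⟩ := exists_glue_cocycle Y hY.2.2.2 I _ hnb
      obtain ⟨r, hr⟩ := exists_nsmul_eq I U hn s
      obtain ⟨c, hc⟩ := (val_bijective Y I.obj 0).2 fun a => I.obj.map (inter Y 0 a).hom.op r
      refine ⟨c, (val_bijective Y I.obj 1).1 (funext fun a => ?_), (val_bijective Y I.obj 0).1 (funext fun a => ?_)⟩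
      · show val Y I.obj 1 a (L.d 0 1 c) = val Y I.obj 1 a 0
        rw [map_zero, val_d, Fin.sum_univ_two]
        have e : ∀ j : Fin 2, I.obj.map (proj Y 0 a j).left.op (val Y I.obj 0 (fun k => a (j.succAbove k)) c) =
            I.obj.map (inter Y 1 a).hom.op r := fun j => by
          rw [show val Y I.obj 0 _ c = I.obj.map (inter Y 0 _).hom.op r from congrFun hc _,
            ← ConcreteCategory.comp_apply, ← I.obj.map_comp, ← op_comp, Over.w]
        rw [e, e]
        simp
      · show val Y I.obj 0 a (n • c) = val Y I.obj 0 a (n • b)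
        have h1 := hs _ (univTup Y 0 a)
        unfold ev0 at h1
        rw [lift_univTup, op_id, I.obj.map_id] at h1
        refine Eq.trans ?_ h1
        rw [val_nsmul, show val Y I.obj 0 a c = I.obj.map (inter Y 0 a).hom.op r from congrFun hc a, ← map_nsmul, hr]
        congr 3
        simp [Elt.toU]
  obtain ⟨z, hz⟩ := hsurj q (b - c) (isOfFinAddOrder_iff_nsmul_eq_zero.2 ⟨n, hn, by rw [nsmul_sub, hc, sub_self]⟩)
  refine ⟨z, hf (q + 1) ?_⟩
  show f.f (q + 1) (K.d q (q + 1) z) = f.f (q + 1) x
  rw [← ConcreteCategory.comp_apply, ← f.comm, ConcreteCategory.comp_apply, hz, map_sub, hb, hc0, sub_zero]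

theorem isTorsion_tor (I : EtCoh.Ab X) : EtCoh.IsTorsion (tor I) :=
  isTorsion_of_germTors fun U s Ω _ _ ξ t => by
    refine (injective_isOfFinAddOrder_iff (f := ((EtCoh.stalk ξ).map (torι I)).hom) ?_).1
      (show IsOfFinAddOrder (((EtCoh.stalk ξ).map (torι I)).hom (germ ξ (tor I) t s)) from ?_)
    · exact stalk_map_injective (torι I)
    · rw [show ((EtCoh.stalk ξ).map (torι I)).hom (germ ξ (tor I) t s) = germ ξ I t s.1 from stalk_map_germ (torι I) t s]
      exact s.2 Ω ξ t

/-- a torsion sheaf embeds in a torsion sheaf which is Čech acyclic, with torsion quotient -/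
theorem exists_embedding (F : EtCoh.Ab X) (hF : EtCoh.IsTorsion F) :
    ∃ S : ShortComplex (EtCoh.Ab X), S.ShortExact ∧ S.X₁ = F ∧ EtCoh.IsTorsion S.X₂ ∧ CechAcyclic affCov S.X₂ ∧
      EtCoh.IsTorsion S.X₃ := by
  let I := Injective.under F
  let j : F ⟶ tor I :=
    ⟨{ app := fun U => AddCommGrpCat.ofHom
         { toFun := fun s => ⟨(Injective.ι F).hom.app U s, fun Ω _ _ ξ t => by
              rw [← stalk_map_germ]
              exact (((EtCoh.stalk ξ).map (Injective.ι F)).hom).isOfFinAddOrder (germTors_of_isTorsion hF s Ω ξ t)⟩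
           map_zero' := Subtype.ext (map_zero _)
           map_add' := fun a b => Subtype.ext (map_add _ _ _) }
       naturality := fun U V g => AddCommGrpCat.hom_ext (AddMonoidHom.ext fun s =>
         Subtype.ext (NatTrans.naturality_apply (Injective.ι F).hom g s)) }⟩
  haveI : Mono j := mono_of_mono_fac (show j ≫ torι I = Injective.ι F from rfl)
  let S := ShortComplex.mk j (cokernel.π j) (cokernel.condition j)
  haveI : Epi S.g := inferInstanceAs (Epi (cokernel.π j))
  refine ⟨S, { exact := S.exact_of_g_is_cokernel (cokernelIsCokernel j)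
               mono_f := inferInstanceAs (Mono j)
               epi_g := ‹_› }, rfl, isTorsion_tor I, cechAcyclic_tor I, isTorsion_of_germTors fun U s Ω _ _ ξ t => ?_⟩
  haveI : PreservesColimitsOfSize.{0, 0} (EtCoh.stalk ξ) :=
    (Scheme.pointSmallEtale ξ).skyscraperSheafAdjunction.leftAdjoint_preservesColimits
  obtain ⟨p, hp⟩ := (AddCommGrpCat.epi_iff_surjective ((EtCoh.stalk ξ).map S.g)).1 inferInstance (germ ξ S.X₃ t s)
  obtain ⟨V, v, r, rfl⟩ := germ_surjective S.X₂ p
  rw [← hp]
  exact (((EtCoh.stalk ξ).map S.g).hom).isOfFinAddOrder (germTors_of_isTorsion (isTorsion_tor I) r Ω ξ v)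

end Groth.Agent.EtCechLib
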