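import Mathlib
import Groth.Agent.EtCechLib.Torsion
import Groth.Agent.EtCechLib.CohColim
import Groth.Prelude.Def_EtGm

/-!
# Affine coverings and the Čech acyclicity of the additive group
-/

noncomputable section

set_option autoImplicit false
set_option backward.isDefEq.respectTransparency.types false
set_option linter.style.haveILetI false

universe v w u

open CategoryTheory CategoryTheory.Limits AlgebraicGeometry Opposite TensorProduct

namespace Groth.Agent.EtCechLib

open Groth.Agent.EtSh

variable {X : Scheme.{u}}

/-- affine étale objects -/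
def affObj : Set X.Etale := {U | IsAffine U.left}

/-- finite affine coverings of affine objects -/
def affCov' (U : X.Etale) (ι : Type (u + 1)) (Y : ι → Over U) : Prop :=
  IsAffine U.left ∧ affCov U ι Y

/-- finite products over `U` of affine objects over `U` -/
theorem affineHom_inter {U : X.Etale} {ι : Type (u + 1)} (Y : ι → Over U)
    (h : ∀ i, IsAffineHom (Y i).hom.left) :
    ∀ (n : ℕ) (a : Fin (n + 1) → ι), IsAffineHom (inter Y n a).hom.left := by
  intro n
  induction n with
  | zero =>
    intro a
    let π := Pi.π (fun k => Y (a k)) 0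
    let e : inter Y 0 a ≅ Y (a 0) :=
      { hom := π
        inv := Pi.lift fun k => eqToHom (by rw [Fin.fin_one_eq_zero k])
        hom_inv_id := Pi.hom_ext _ _ fun k => by
          obtain rfl := (Fin.fin_one_eq_zero k).symm
          simp [π]
        inv_hom_id := by simp [π] }
    haveI : IsIso e.hom := Iso.isIso_hom e
    haveI : IsIso e.hom.left.left :=
      Functor.map_isIso (Over.forget U ⋙ Scheme.Etale.forget X ⋙ Over.forget X) e.hom
    haveI := h (a 0)
    have he : (inter Y 0 a).hom.left = e.hom.left.left ≫ (Y (a 0)).hom.left :=
      (congrArg (fun k => k.left) (Over.w e.hom)).symm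
    rw [he]
    infer_instance
  | succ n ih =>
    intro a
    let Z := inter Y n fun k => a k.succ
    let O : Over U := Over.mk (pullback.fst (Y (a 0)).hom Z.hom ≫ (Y (a 0)).hom)
    let toO : inter Y (n + 1) a ⟶ O :=
      Over.homMk (pullback.lift (Pi.π (fun k => Y (a k)) 0).left
        (Pi.lift fun k => Pi.π (fun k => Y (a k)) k.succ : inter Y (n + 1) a ⟶ Z).left
        (by rw [Over.w, Over.w])) ((pullback.lift_fst_assoc _ _ _ _).trans (Over.w _))
    let froO : O ⟶ inter Y (n + 1) a := Pi.lift (Fin.cases
      (Over.homMk (pullback.fst (Y (a 0)).hom Z.hom) rfl)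
      (fun k => (Over.homMk (pullback.snd (Y (a 0)).hom Z.hom) pullback.condition.symm : O ⟶ Z) ≫
        Pi.π (fun k => Y (a k.succ)) k))
    let e : inter Y (n + 1) a ≅ O :=
      { hom := toO
        inv := froO
        hom_inv_id := Pi.hom_ext _ _ fun k => by
          induction k using Fin.cases with
          | zero =>
            refine Over.OverMorphism.ext ?_
            simp only [toO, froO, Category.assoc, Category.id_comp, Pi.lift_π, Fin.cases_zero, Over.comp_left,
              Over.homMk_left]
            exact pullback.lift_fst _ _ _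
          | succ k =>
            ext
            simp only [toO, froO, Category.assoc, Category.id_comp, Pi.lift_π, Fin.cases_succ, Over.comp_left,
              Over.homMk_left, pullback.lift_snd_assoc]
            rw [← Over.comp_left, Pi.lift_π]
        inv_hom_id := by
          refine Over.OverMorphism.ext (pullback.hom_ext ?_ ?_)
          · show (froO ≫ toO).left ≫ _ = _
            simp only [toO, Over.comp_left, Over.homMk_left, Category.assoc, pullback.lift_fst, Over.id_left,
              Category.id_comp]
            rw [← Over.comp_left, Pi.lift_π]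
            rfl
          · show (froO ≫ toO).left ≫ _ = _
            simp only [toO, Over.comp_left, Over.homMk_left, Category.assoc, pullback.lift_snd, Over.id_left,
              Category.id_comp]
            rw [← Over.comp_left]
            have : froO ≫ (Pi.lift fun k => Pi.π (fun k => Y (a k)) k.succ : inter Y (n + 1) a ⟶ Z) =
                Over.homMk (pullback.snd (Y (a 0)).hom Z.hom) pullback.condition.symm :=
              Pi.hom_ext _ _ fun k => by
                rw [Category.assoc, Pi.lift_π, Pi.lift_π, Fin.cases_succ]
            rw [this]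
            rfl }
    haveI : IsIso e.hom := Iso.isIso_hom e
    haveI : IsIso e.hom.left.left :=
      Functor.map_isIso (Over.forget U ⋙ Scheme.Etale.forget X ⋙ Over.forget X) e.hom
    let F := Scheme.Etale.forget X ⋙ Over.forget X
    have hsq := (IsPullback.of_hasPullback (Y (a 0)).hom Z.hom).map F
    haveI : IsAffineHom (pullback.fst (Y (a 0)).hom Z.hom).left :=
      MorphismProperty.of_isPullback (P := @IsAffineHom) hsq.flip (ih fun k => a k.succ)
    haveI := h (a 0)
    have he : (inter Y (n + 1) a).hom.left =
        e.hom.left.left ≫ (pullback.fst (Y (a 0)).hom Z.hom).left ≫ (Y (a 0)).hom.left :=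
      (congrArg (fun k => k.left) (Over.w e.hom)).symm
    rw [he]
    infer_instance

theorem isAffine_inter {U : X.Etale} {ι : Type (u + 1)} {Y : ι → Over U} (h : affCov' U ι Y) (n : ℕ)
    (a : Fin (n + 1) → ι) : IsAffine (inter Y n a).left.left := by
  haveI := h.1
  haveI : IsAffineHom (inter Y n a).hom.left := affineHom_inter Y (fun i => by
    haveI := h.2.2.2.1 i
    exact isAffineHom_of_isAffine _) n a
  exact isAffine_of_isAffineHom (inter Y n a).hom.left

theorem qcqs_of_affine {U : X.Etale} [IsAffine U.left] : U ∈ qcqsObj :=
  ⟨(inferInstance : CompactSpace U.left), (inferInstance : QuasiSeparatedSpace U.left)⟩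

theorem isCovSys_affCov' : IsCovSys (X := X) affObj affCov' where
  mem U ι Y h := ⟨h.2.2.2.2, isAffine_inter h⟩
  cofinal U hU T hT := by
    haveI : IsAffine U.left := hU
    obtain ⟨ι, Y, hY, hYT⟩ := isCovSys_affCov.cofinal U qcqs_of_affine T hT
    exact ⟨ι, Y, ⟨hU, hY⟩, hYT⟩

theorem subsingleton_H_of_cechAcyclic' [IsAffine X] : ∀ (q : ℕ) (F : EtCoh.Ab X), CechAcyclic affCov' F →
    Subsingleton (EtCoh.H X F (q + 1)) := by
  intro q
  induction q with
  | zero =>
    intro F hF
    let S := ShortComplex.mk (Injective.ι F) (cokernel.π (Injective.ι F)) (cokernel.condition _)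
    have hS : S.ShortExact :=
      { exact := S.exact_of_g_is_cokernel (cokernelIsCokernel _)
        mono_f := inferInstanceAs (Mono (Injective.ι F))
        epi_g := inferInstanceAs (Epi (cokernel.π (Injective.ι F))) }
    haveI : Injective S.X₂ := inferInstanceAs (Injective (Injective.under F))
    refine CohAcyc.subsingleton_one_of_lift hS
      (inferInstanceAs (Subsingleton (EtCoh.H X S.X₂ (0 + 1)))) fun s => ?_
    let hT' := EtSh.topTerminal X
    obtain ⟨a, ha⟩ := isCovSys_affCov'.surjective hS hF (show EtCoh.top X ∈ affObj (X := X) from (inferInstance : IsAffine X))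
      (Sheaf.H.equiv₀ S.X₃ hT' (Abelian.Ext.addEquiv₀.symm s))
    refine ⟨Abelian.Ext.addEquiv₀ ((Sheaf.H.equiv₀ S.X₂ hT').symm a), ?_⟩
    rw [← Sheaf.H.addEquiv₀_map]
    have := Sheaf.H.equiv₀_naturality hT' S.g ((Sheaf.H.equiv₀ S.X₂ hT').symm a)
    rw [AddEquiv.apply_symm_apply, ha] at this
    rw [← (Sheaf.H.equiv₀ S.X₃ hT').injective this, AddEquiv.apply_symm_apply]
  | succ q ih =>
    intro F hF
    let S := ShortComplex.mk (Injective.ι F) (cokernel.π (Injective.ι F)) (cokernel.condition _)
    have hS : S.ShortExact :=
      { exact := S.exact_of_g_is_cokernel (cokernelIsCokernel _)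
        mono_f := inferInstanceAs (Mono (Injective.ι F))
        epi_g := inferInstanceAs (Epi (cokernel.π (Injective.ι F))) }
    haveI : Injective S.X₂ := inferInstanceAs (Injective (Injective.under F))
    exact CohAcyc.subsingleton_succ_of_ses hS
      (ih S.X₃ (isCovSys_affCov'.quot hS hF (cechAcyclic_of_injective S.X₂)))
      (inferInstanceAs (Subsingleton (EtCoh.H X S.X₂ (q + 1 + 1))))


end Groth.Agent.EtCechLib
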