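import Mathlib
import Groth.Agent.EtSh.LocalRing
import Groth.Agent.EtSh.ConstStalk
import Groth.Prelude.Def_W4c5etcohweilstudentAS

/-!
# The Artin–Schreier sequence on the small étale site
-/

noncomputable section

set_option autoImplicit false
set_option backward.isDefEq.respectTransparency.types false
set_option linter.style.haveILetI false

universe u

open CategoryTheory CategoryTheory.Limits AlgebraicGeometry Opposite

namespace Groth.Agent.EtCechLib

open Groth.Agent.EtSh W4c5etcohweilstudent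

/-- fixed points of Frobenius in a local ring of characteristic `p` -/
theorem exists_zmod_of_pow_eq {R : Type u} [CommRing R] [IsLocalRing R] (p : ℕ) [Fact p.Prime] [CharP R p]
    {x : R} (hx : x ^ p = x) : ∃ n : ZMod p, ZMod.castHom dvd_rfl R n = x := by
  haveI : CharP (IsLocalRing.ResidueField R) p :=
    CharP.ringChar_of_prime_eq_zero (R := IsLocalRing.ResidueField R) Fact.out (by
      rw [← map_natCast (IsLocalRing.residue R) p, CharP.cast_eq_zero R p, map_zero]) ▸ ringChar.charP _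
  have hb : IsLocalRing.residue R x ∈ (⊥ : Subfield (IsLocalRing.ResidueField R)) :=
    (Subfield.mem_bot_iff_pow_eq_self (F := IsLocalRing.ResidueField R) (p := p)).2 (by rw [← map_pow, hx])
  rw [← ZMod.fieldRange_castHom_eq_bot p, RingHom.mem_fieldRange] at hb
  obtain ⟨n, hn⟩ := hb
  refine ⟨n, ?_⟩
  let y := x - ZMod.castHom dvd_rfl R n
  have hy : y ^ p = y := by
    show (x - _) ^ p = _
    rw [sub_pow_char, hx, ← map_pow, ZMod.pow_card]
  have hu : IsUnit (1 - y ^ (p - 1)) := by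
    refine IsLocalRing.isUnit_one_sub_self_of_mem_nonunits _ fun h => ?_
    have h0 : IsLocalRing.residue R y = 0 := by
      rw [map_sub, sub_eq_zero, ← hn]
      exact congrFun (congrArg DFunLike.coe (RingHom.ext_zmod (ZMod.castHom dvd_rfl _)
        ((IsLocalRing.residue R).comp (ZMod.castHom dvd_rfl R)))) n
    exact (IsLocalRing.residue_eq_zero_iff y).1 h0
      ((isUnit_pow_iff (Nat.sub_ne_zero_of_lt (Fact.out : p.Prime).one_lt)).1 h)
  have h1 : y * (1 - y ^ (p - 1)) = 0 := by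
    rw [mul_sub, mul_one, ← pow_succ', Nat.sub_add_cancel (Fact.out : p.Prime).pos, hy, sub_self]
  exact (sub_eq_zero.1 (hu.mul_left_eq_zero.1 h1)).symm

variable {X : Scheme.{u}} {Ω : Type u} [Field Ω] [IsSepClosed Ω] {ξ : Spec (CommRingCat.of Ω) ⟶ X}

/-- germs of `G_a` are germs of functions -/
theorem germ_ga_eq_iff {U V : X.Etale} (t : Fib ξ U) (v : Fib ξ V) (s : (EtCoh.Ga X).obj.obj (op U))
    (r : (EtCoh.Ga X).obj.obj (op V)) :
    germ ξ (EtCoh.Ga X) t s = germ ξ (EtCoh.Ga X) v r ↔ rgerm ξ t s.down = rgerm ξ v r.down := by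
  obtain ⟨⟨W, w⟩, ⟨f, hf⟩, ⟨g, hg⟩, -⟩ :=
    IsCofilteredOrEmpty.cone_objs (Functor.elementsMk (Scheme.pointSmallEtale ξ).fiber U t)
      (Functor.elementsMk (Scheme.pointSmallEtale ξ).fiber V v)
  change (Scheme.pointSmallEtale ξ).fiber.map f w = t at hf
  change (Scheme.pointSmallEtale ξ).fiber.map g w = v at hg
  rw [← hf, ← hg, ← germ_map, ← germ_map, ← rgerm_map, ← rgerm_map]
  refine (((Scheme.pointSmallEtale ξ).toPresheafFiber_eq_iff' W w _ _).trans ⟨?_, ?_⟩).trans
    ((Scheme.pointSmallEtale ξ).toPresheafFiber_eq_iff' (P := EtBase.OO X) W w _ _).symm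
  · rintro ⟨W', k, w', hw, h⟩
    exact ⟨W', k, w', hw, congrArg ULift.down h⟩
  · rintro ⟨W', k, w', hw, h⟩
    exact ⟨W', k, w', hw, ULift.ext _ _ h⟩

theorem rgerm_natCast (ξ : Spec (CommRingCat.of Ω) ⟶ X) (p : ℕ) (h0 : (p : Γ(X, ⊤)) = 0) : (p : EtBase.etaleLocalRing ξ) = 0 := by
  obtain ⟨U, t, -⟩ := exists_stage (ξ := ξ) ∅
  rw [← map_natCast (rgerm ξ t).hom p, natCast_eq_zero_etale p h0 U, map_zero]

theorem charP_etaleLocalRing (p : ℕ) (hp : p.Prime) (h0 : (p : Γ(X, ⊤)) = 0) :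
    CharP (EtBase.etaleLocalRing ξ) p :=
  CharP.ringChar_of_prime_eq_zero hp (rgerm_natCast ξ p h0) ▸ ringChar.charP _

theorem as_app (p : ℕ) (hp : p.Prime) (h0 : (p : Γ(X, ⊤)) = 0) (U : X.Etale) (s : (EtCoh.Ga X).obj.obj (op U)) :
    ((artinSchreierEndo X p hp h0).hom.app (op U) s).down =
      asHom Γ(U.left, ⊤) p hp (natCast_eq_zero_etale p h0 U) s.down := rfl

open Polynomial in
/-- the Artin–Schreier map is surjective on stalks -/
theorem stalk_as_surjective (p : ℕ) (hp : p.Prime) (h0 : (p : Γ(X, ⊤)) = 0) :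
    Function.Surjective ((EtCoh.stalk ξ).map (artinSchreierEndo X p hp h0)) := by
  intro q
  obtain ⟨U, t, s, rfl⟩ := germ_surjective _ q
  let R := EtBase.etaleLocalRing ξ
  let r : R := rgerm ξ t s.down
  let f : Polynomial R := Polynomial.X ^ p - (Polynomial.X + C r)
  have hf : f.Monic := monic_X_pow_sub ((degree_X_add_C r).trans_lt (by exact_mod_cast hp.one_lt))
  haveI := charP_etaleLocalRing (ξ := ξ) p hp h0
  have hp0 : (p : Ω) = 0 := by
    rw [← map_natCast (evalPt ξ).hom p, CharP.cast_eq_zero R p, map_zero]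
  have hder : (f.map (evalPt ξ).hom).derivative = -1 := by
    simp [f, derivative_X_pow, hp0]
  have hdeg : (f.map (evalPt ξ).hom).degree ≠ 0 := by
    rw [hf.degree_map, degree_sub_eq_left_of_degree_lt (by
      rw [degree_X_add_C, degree_X_pow]; exact_mod_cast hp.one_lt), degree_X_pow]
    exact_mod_cast hp.ne_zero
  obtain ⟨ω, hω⟩ := IsSepClosed.exists_root (f.map (evalPt ξ).hom) hdeg
    ((separable_def' _).2 ⟨0, -1, by rw [hder]; ring⟩)
  obtain ⟨a, ha, -⟩ := exists_root f hf ω hω (by rw [hder]; simp)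
  obtain ⟨V, v, b, hb⟩ := rgerm_surjective a
  refine ⟨germ ξ (EtCoh.Ga X) v (ULift.up b), ?_⟩
  rw [stalk_map_germ, germ_ga_eq_iff, as_app, asHom_apply]
  erw [map_sub, map_pow, hb]
  simp only [f, IsRoot, eval_sub, eval_pow, eval_X, eval_add, eval_C] at ha
  rw [sub_eq_zero] at ha
  rw [ha]
  exact add_sub_cancel_left _ _

theorem epi_artinSchreierEndo (X : Scheme.{u}) (p : ℕ) (hp : p.Prime) (h0 : (p : Γ(X, ⊤)) = 0) :
    Epi (artinSchreierEndo X p hp h0) :=
  epi_of_stalk _ fun _ _ _ _ => stalk_as_surjective p hp h0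

section Seq

variable (X) (p : ℕ) [hp : Fact p.Prime] (h0 : (p : Γ(X, ⊤)) = 0)

/-- `n ↦ n` as a global section of `G_a` -/
def castSec : AddCommGrpCat.of (ULift.{u + 1} (ZMod p)) ⟶ (EtCore.gsec X).obj (EtCoh.Ga X) :=
  AddCommGrpCat.ofHom (AddEquiv.ulift.symm.toAddMonoidHom.comp
    ((ZMod.lift p ⟨Int.castAddHom Γ((EtCoh.top X).left, ⊤), by
      simpa using natCast_eq_zero_etale p h0 (EtCoh.top X)⟩).comp AddEquiv.ulift.toAddMonoidHom))

theorem castSec_intCast (m : ℤ) :
    ((castSec X p h0 (ULift.up (m : ZMod p))).down : Γ((EtCoh.top X).left, ⊤)) = (m : Γ((EtCoh.top X).left, ⊤)) := by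
  show ZMod.lift p (⟨Int.castAddHom Γ((EtCoh.top X).left, ⊤), by
      simpa using natCast_eq_zero_etale p h0 (EtCoh.top X)⟩ : {f : ℤ →+ Γ((EtCoh.top X).left, ⊤) // f p = 0}) (m : ZMod p) = _
  rw [ZMod.lift_coe]
  rfl

/-- the inclusion of the prime field -/
def castMap : EtCoh.const X (ZMod p) ⟶ EtCoh.Ga X := ((EtCore.constAdj X).homEquiv _ _).symm (castSec X p h0)

variable {X}

theorem stalk_castMap (ξ : Spec (CommRingCat.of Ω) ⟶ X) (n : ZMod p) :
    (EtCoh.stalk ξ).map (castMap X p h0) (constGerm ξ (AddCommGrpCat.of (ULift.{u + 1} (ZMod p))) (ULift.up n)) =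
      germ ξ (EtCoh.Ga X) (topLift ξ) (castSec X p h0 (ULift.up n)) := by
  rw [constGerm, ConcreteCategory.comp_apply, stalk_map_germ]
  congr 1
  have := (Adjunction.homEquiv_unit (EtCore.constAdj X) _ _ (castMap X p h0)).symm
  rw [castMap, Equiv.apply_symm_apply] at this
  exact ConcreteCategory.congr_hom this (ULift.up n)

theorem rgerm_castSec (ξ : Spec (CommRingCat.of Ω) ⟶ X) (n : ZMod p) :
    haveI := charP_etaleLocalRing (ξ := ξ) p hp.out h0
    rgerm ξ (topLift ξ) (castSec X p h0 (ULift.up n)).down = ZMod.castHom dvd_rfl _ n := by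
  obtain ⟨m, rfl⟩ := ZMod.intCast_surjective n
  rw [map_intCast]
  exact (congrArg (rgerm ξ (topLift ξ)) (castSec_intCast X p h0 m)).trans (map_intCast (rgerm ξ (topLift ξ)).hom m)

theorem castMap_as : castMap X p h0 ≫ artinSchreierEndo X p hp.out h0 = 0 := by
  rw [castMap, ← Adjunction.homEquiv_naturality_right_symm, Equiv.symm_apply_eq, Adjunction.homEquiv_unit,
    Functor.map_zero, comp_zero]
  · ext ⟨n⟩
    obtain ⟨m, rfl⟩ := ZMod.intCast_surjective n
    refine ULift.ext _ _ ?_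
    show ((artinSchreierEndo X p hp.out h0).hom.app (op (EtCoh.top X)) (castSec X p h0 (ULift.up (m : ZMod p)))).down = 0
    rw [as_app, castSec_intCast, ← zsmul_one, map_zsmul, asHom_apply, one_pow, sub_self, smul_zero]
    rfl

/-- the Artin–Schreier sequence -/
def asSeq : ShortComplex (EtCoh.Ab X) :=
  ShortComplex.mk (castMap X p h0) (artinSchreierEndo X p hp.out h0) (castMap_as p h0)

theorem asSeq_shortExact : (asSeq p h0).ShortExact := by
  let K := kernel (artinSchreierEndo X p hp.out h0)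
  let l : EtCoh.const X (ZMod p) ⟶ K := kernel.lift _ (castMap X p h0) (castMap_as p h0)
  have hinj : ∀ (Ω : Type u) [Field Ω] [IsSepClosed Ω] (ξ : Spec (CommRingCat.of Ω) ⟶ X),
      Function.Injective ((EtCoh.stalk ξ).map (castMap X p h0)) := by
    intro Ω _ _ ξ a b h
    obtain ⟨⟨m⟩, rfl⟩ := (bijective_constGerm ξ (AddCommGrpCat.of (ULift.{u + 1} (ZMod p)))).2 a
    obtain ⟨⟨n⟩, rfl⟩ := (bijective_constGerm ξ (AddCommGrpCat.of (ULift.{u + 1} (ZMod p)))).2 b
    rw [stalk_castMap, stalk_castMap, germ_ga_eq_iff, rgerm_castSec, rgerm_castSec] at h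
    haveI := charP_etaleLocalRing (ξ := ξ) p hp.out h0
    rw [ZMod.castHom_injective (EtBase.etaleLocalRing ξ) h]
  haveI : Mono (castMap X p h0) := mono_of_stalk _ hinj
  haveI : IsIso l := by
    refine isIso_of_stalk _ fun Ω _ _ ξ => (ConcreteCategory.isIso_iff_bijective _).2 ⟨?_, fun q => ?_⟩
    · refine Function.Injective.of_comp (f := (EtCoh.stalk ξ).map (kernel.ι _)) ?_
      intro a b h
      apply hinj Ω ξ
      rwa [← kernel.lift_ι (artinSchreierEndo X p hp.out h0) (castMap X p h0) (castMap_as p h0), Functor.map_comp]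
    · have h1 : (EtCoh.stalk ξ).map (artinSchreierEndo X p hp.out h0) ((EtCoh.stalk ξ).map (kernel.ι _) q) = 0 := by
        rw [← ConcreteCategory.comp_apply, ← Functor.map_comp, kernel.condition, Functor.map_zero]
        rfl
      obtain ⟨U, t, s, hs⟩ := germ_surjective _ ((EtCoh.stalk ξ).map (kernel.ι _) q)
      rw [← hs, stalk_map_germ, ← map_zero (germ ξ (EtCoh.Ga X) t).hom, germ_ga_eq_iff, as_app, asHom_apply] at h1
      haveI := charP_etaleLocalRing (ξ := ξ) p hp.out h0
      have h2 : rgerm ξ t s.down ^ p = rgerm ξ t s.down := by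
        rw [← sub_eq_zero, ← map_pow, ← map_sub, h1]
        exact map_zero _
      obtain ⟨n, hn⟩ := exists_zmod_of_pow_eq p h2
      refine ⟨constGerm ξ _ (ULift.up n), stalk_map_injective (kernel.ι _) ?_⟩
      rw [← ConcreteCategory.comp_apply, ← Functor.map_comp, kernel.lift_ι, stalk_castMap, ← hs, germ_ga_eq_iff,
        rgerm_castSec, hn]
  exact
    { exact := ShortComplex.exact_of_f_is_kernel _ (IsLimit.ofIsoLimit (kernelIsKernel _)
        (Fork.ext (asIso l).symm ((asIso l).inv_comp_eq.2 (kernel.lift_ι _ _ _).symm)))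
      mono_f := inferInstanceAs (Mono (castMap X p h0))
      epi_g := epi_artinSchreierEndo X p hp.out h0 }

end Seq

end Groth.Agent.EtCechLib
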