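import Groth.Agent.EtCechLib.Injective
import Groth.Agent.EtSh.Flasque
import Mathlib.Algebra.Homology.HomologySequence
import Mathlib.Algebra.Homology.HomologicalComplexAbelian
import Mathlib.CategoryTheory.Limits.Shapes.Pullback.HasPullback

/-!
# Cartan's criterion on small étale sites
-/

noncomputable section

set_option autoImplicit false
set_option backward.isDefEq.respectTransparency.types false

universe u

open CategoryTheory CategoryTheory.Limits AlgebraicGeometry Opposite CategoryTheory.Abelian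

namespace Groth.Agent.EtCechLib

variable {X : Scheme.{u}}

instance : HasPullbacks X.Etale := inferInstance

instance (U : X.Etale) : HasFiniteProducts (Over U) :=
  haveI : HasBinaryProducts (Over U) := hasBinaryProducts_of_hasTerminal_and_pullbacks _
  hasFiniteProducts_of_has_binary_and_terminal

/-- evaluation of a `0`-cochain on an element -/
def ev0 {U : X.Etale} {ι : Type (u + 1)} {Y : ι → Over U} (P : X.Etaleᵒᵖ ⥤ AddCommGrpCat.{u + 1})
    (z : ((EtCech.cechComplex Y P).X 0 : AddCommGrpCat.{u + 1})) {V : X.Etale} (p : Tup Y 0 V) : P.obj (op V) :=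
  P.map p.lift.op (val Y P 0 p.idx z)

theorem ev0_res {U : X.Etale} {ι : Type (u + 1)} {Y : ι → Over U} (P : X.Etaleᵒᵖ ⥤ AddCommGrpCat.{u + 1})
    (z : ((EtCech.cechComplex Y P).X 0 : AddCommGrpCat.{u + 1})) {V W : X.Etale} (k : W ⟶ V) (p : Tup Y 0 V) :
    P.map k.op (ev0 P z p) = ev0 P z (p.res k) := by
  unfold ev0
  rw [lift_res, op_comp, P.map_comp]
  rfl

/-- a `0`-cocycle of a sheaf glues -/
theorem exists_glue_cocycle {U : X.Etale} {ι : Type (u + 1)} (Y : ι → Over U)
    (hY : Sieve.ofArrows (fun i => (Y i).left) (fun i => (Y i).hom) ∈ X.smallEtaleTopology U) (G : EtCoh.Ab X)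
    (z : ((EtCech.cechComplex Y G.obj).X 0 : AddCommGrpCat.{u + 1}))
    (hz : (EtCech.cechComplex Y G.obj).d 0 1 z = 0) :
    ∃ s : G.obj.obj (op U), ∀ (V : X.Etale) (p : Tup Y 0 V), G.obj.map (p.1 0).toU.op s = ev0 G.obj z p := by
  have hP : Presieve.IsSheaf X.smallEtaleTopology (G.obj ⋙ forget AddCommGrpCat.{u + 1}) :=
    (isSheaf_iff_isSheaf_of_type _ _).1 ((sheafCompose _ (forget AddCommGrpCat.{u + 1})).obj G).property
  have hS := hP _ hY
  rw [Sieve.ofArrows, ← Presieve.isSheafFor_iff_generate, Presieve.isSheafFor_arrows_iff] at hS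
  let single : ∀ (i : ι) (V : X.Etale), (V ⟶ (Y i).left) → Tup Y 0 V := fun i V g =>
    ⟨fun _ => ⟨i, equivShrink _ g⟩, fun _ _ => rfl⟩
  have hcomp : ∀ (V : X.Etale) (q : Tup Y 1 V), ev0 G.obj z (q.face 0) = ev0 G.obj z (q.face 1) := fun V q => by
    have h := congrArg (fun t => G.obj.map q.lift.op (val Y G.obj 1 q.idx t)) hz
    simp only [map_zero] at h
    rw [val_d, map_sum_zsmul (G.obj.map q.lift.op).hom, Fin.sum_univ_two] at h
    simp only [Fin.val_zero, Fin.val_one, pow_zero, pow_one, one_smul, neg_smul, one_zsmul] at h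
    have hf : ∀ j : Fin 2, G.obj.map q.lift.op (G.obj.map (proj Y 0 q.idx j).left.op
        (val Y G.obj 0 (fun k => q.idx (j.succAbove k)) z)) = ev0 G.obj z (q.face j) := fun j => by
      unfold ev0
      rw [lift_face, op_comp, G.obj.map_comp]
      rfl
    rw [hf, hf] at h
    exact eq_of_sub_eq_zero ((sub_eq_add_neg _ _).trans h)
  obtain ⟨s, hs, -⟩ := hS (fun i => ev0 G.obj z (single i _ (𝟙 _))) fun i j V gi gj hij => by
    show G.obj.map gi.op (ev0 G.obj z (single i _ (𝟙 _))) = G.obj.map gj.op (ev0 G.obj z (single j _ (𝟙 _)))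
    rw [ev0_res, ev0_res]
    let q : Tup Y 1 V := ⟨![⟨i, equivShrink _ gi⟩, ⟨j, equivShrink _ gj⟩], fun a b => by
      fin_cases a <;> fin_cases b <;> simp [Elt.toU]
      all_goals (erw [Equiv.symm_apply_apply, Equiv.symm_apply_apply]; first | exact hij | exact hij.symm)⟩
    have e0 : (single i _ (𝟙 _)).res gi = q.face 1 := Subtype.ext (funext fun l => by
      fin_cases l; simp [single, Elt.res, q, Tup.face, Fin.succAbove])
    have e1 : (single j _ (𝟙 _)).res gj = q.face 0 := Subtype.ext (funext fun l => by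
      fin_cases l; simp [single, Elt.res, q, Tup.face, Fin.succAbove])
    rw [e0, e1]
    exact (hcomp V q).symm
  refine ⟨s, fun V p => ?_⟩
  have he : (single (p.1 0).1 _ (𝟙 _)).res ((equivShrink _).symm (p.1 0).2) = p :=
    Subtype.ext (funext fun l => by fin_cases l; simp [single, Elt.res])
  conv_rhs => rw [← he, ← ev0_res, ← show G.obj.map (Y (p.1 0).1).hom.op s = _ from hs (p.1 0).1]
  rw [← ConcreteCategory.comp_apply, ← G.obj.map_comp, ← op_comp]

/-- functoriality of the components -/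
theorem val_map {U : X.Etale} {ι : Type (u + 1)} (Y : ι → Over U) {P Q : X.Etaleᵒᵖ ⥤ AddCommGrpCat.{u + 1}}
    (φ : P ⟶ Q) (n : ℕ) (a : Fin (n + 1) → ι) (x : ((EtCech.cechComplex Y P).X n : AddCommGrpCat.{u + 1})) :
    val Y Q n a ((((cechComplexFunctor Y).map (Functor.whiskerLeft (Over.forget U).op φ)).f n) x) =
      φ.app (op (inter Y n a).left) (val Y P n a x) :=
  ConcreteCategory.congr_hom (Pi.map_π (fun a : Fin (n + 1) → ι => φ.app (op (inter Y n a).left)) a) x

/-- the map on Čech complexes -/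
abbrev cxMap {U : X.Etale} {ι : Type (u + 1)} (Y : ι → Over U) {P Q : X.Etaleᵒᵖ ⥤ AddCommGrpCat.{u + 1}}
    (φ : P ⟶ Q) : EtCech.cechComplex Y P ⟶ EtCech.cechComplex Y Q :=
  (cechComplexFunctor Y).map (Functor.whiskerLeft (Over.forget U).op φ)

/-- a family of coverings of members of `B` with intersections in `B` -/
structure IsCovSys (B : Set X.Etale) (Cov : ∀ (U : X.Etale) (ι : Type (u + 1)), (ι → Over U) → Prop) : Prop where
  mem : ∀ (U : X.Etale) (ι : Type (u + 1)) (Y : ι → Over U), Cov U ι Y →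
      Sieve.ofArrows (fun i => (Y i).left) (fun i => (Y i).hom) ∈ X.smallEtaleTopology U ∧
      ∀ (p : ℕ) (a : Fin (p + 1) → ι), (inter Y p a).left ∈ B
  cofinal : ∀ U ∈ B, ∀ T ∈ X.smallEtaleTopology U,
    ∃ (ι : Type (u + 1)) (Y : ι → Over U), Cov U ι Y ∧ ∀ i, T.arrows (Y i).hom

/-- Čech acyclicity for a covering system -/
def CechAcyclic (Cov : ∀ (U : X.Etale) (ι : Type (u + 1)), (ι → Over U) → Prop) (F : EtCoh.Ab X) : Prop :=
  ∀ (U : X.Etale) (ι : Type (u + 1)) (Y : ι → Over U), Cov U ι Y → ∀ q : ℕ, IsZero (EtCech.cechH Y F.obj (q + 1))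

variable {B : Set X.Etale} {Cov : ∀ (U : X.Etale) (ι : Type (u + 1)), (ι → Over U) → Prop}

theorem cechAcyclic_of_injective (I : EtCoh.Ab X) [Injective I] : CechAcyclic Cov I := by
  intro U ι Y _ q
  haveI : Injective I.obj :=
    Injective.injective_of_adjoint (sheafificationAdjunction X.smallEtaleTopology AddCommGrpCat.{u + 1}) I
  exact isZero_cechH_of_injective Y I.obj q

/-- sections lift when the kernel has no `H¹` of Čech -/
theorem IsCovSys.surjective (hC : IsCovSys B Cov) {S : ShortComplex (EtCoh.Ab X)} (hS : S.ShortExact)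
    (h : CechAcyclic Cov S.X₁) {U : X.Etale} (hU : U ∈ B) : Function.Surjective (S.g.hom.app (op U)) := by
  intro s
  haveI := hS.epi_g
  haveI : Sheaf.IsLocallySurjective S.g :=
    (Sheaf.isLocallySurjective_iff_epi' (A := AddCommGrpCat.{u + 1}) S.g).2 inferInstance
  obtain ⟨ι, Y, hY, hT⟩ := hC.cofinal U hU _ (Presheaf.imageSieve_mem X.smallEtaleTopology S.g.hom s)
  have hinj : ∀ V : X.Etale, Function.Injective (S.f.hom.app (op V)) :=
    S14452.injective_app_of_mono S.f hS.mono_f
  -- the cochain of local lifts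
  have hloc : ∀ a : Fin (0 + 1) → ι, ∃ t : S.X₂.obj.obj (op (inter Y 0 a).left),
      S.g.hom.app (op (inter Y 0 a).left) t = S.X₃.obj.map (inter Y 0 a).hom.op s := fun a => by
    obtain ⟨t₀, ht₀⟩ := hT (a 0)
    refine ⟨S.X₂.obj.map (Pi.π (fun k => Y (a k)) 0).left.op t₀, ?_⟩
    rw [NatTrans.naturality_apply S.g.hom (Pi.π (fun k => Y (a k)) 0).left.op t₀, ht₀,
      ← ConcreteCategory.comp_apply, ← S.X₃.obj.map_comp, ← op_comp, Over.w]
  choose t ht using hloc
  obtain ⟨z, hz⟩ := (val_bijective Y S.X₂.obj 0).2 t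
  have hzval : ∀ a, val Y S.X₂.obj 0 a z = t a := congrFun hz
  -- its coboundary comes from the kernel
  have hdz : ∀ a : Fin (1 + 1) → ι, ∃ c, S.f.hom.app (op (inter Y 1 a).left) c =
      val Y S.X₂.obj 1 a ((EtCech.cechComplex Y S.X₂.obj).d 0 1 z) := fun a => by
    refine S14452.exact_sections hS _ _ ?_
    rw [val_d, map_sum_zsmul (S.g.hom.app (op (inter Y 1 a).left)).hom, Fin.sum_univ_two]
    have e : ∀ j : Fin 2, S.g.hom.app (op (inter Y 1 a).left)
        (S.X₂.obj.map (proj Y 0 a j).left.op (val Y S.X₂.obj 0 (fun k => a (j.succAbove k)) z)) =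
          S.X₃.obj.map (inter Y 1 a).hom.op s := fun j => by
      rw [NatTrans.naturality_apply S.g.hom (proj Y 0 a j).left.op, hzval, ht, ← ConcreteCategory.comp_apply,
        ← S.X₃.obj.map_comp, ← op_comp, Over.w]
    rw [e, e]
    simp
  choose c hc using hdz
  obtain ⟨C₁, hC₁⟩ := (val_bijective Y S.X₁.obj 1).2 c
  have hfC : (cxMap Y S.f.hom).f 1 C₁ = (EtCech.cechComplex Y S.X₂.obj).d 0 1 z :=
    (val_bijective Y S.X₂.obj 1).1 (funext fun a => by
      refine (val_map Y S.f.hom 1 a C₁).trans ?_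
      rw [show val Y S.X₁.obj 1 a C₁ = c a from congrFun hC₁ a, hc])
  have hcoc : (EtCech.cechComplex Y S.X₁.obj).d 1 2 C₁ = 0 := by
    apply (val_bijective Y S.X₁.obj 2).1
    funext a
    apply hinj
    refine (val_map Y S.f.hom 2 a _).symm.trans ?_
    have : (cxMap Y S.f.hom).f 2 ((EtCech.cechComplex Y S.X₁.obj).d 1 2 C₁) = 0 := by
      rw [← ConcreteCategory.comp_apply, ← (cxMap Y S.f.hom).comm 1 2, ConcreteCategory.comp_apply, hfC,
        ← ConcreteCategory.comp_apply, HomologicalComplex.d_comp_d]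
      rfl
    show val Y S.X₂.obj 2 a ((cxMap Y S.f.hom).f 2 _) = _
    rw [this, map_zero]
    exact (map_zero _).symm.trans (congrArg _ (map_zero (val Y S.X₁.obj 2 a)).symm)
  have hex : (EtCech.cechComplex Y S.X₁.obj).ExactAt 1 :=
    (HomologicalComplex.exactAt_iff_isZero_homology _ _).2 (h U ι Y hY 0)
  rw [HomologicalComplex.exactAt_iff' _ 0 1 2 (CochainComplex.prev_nat_succ 0) (CochainComplex.next ℕ 1),
    ShortComplex.ab_exact_iff] at hex
  obtain ⟨b, hb⟩ := hex C₁ hcoc
  replace hb : (EtCech.cechComplex Y S.X₁.obj).d 0 1 b = C₁ := hb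
  have hz' : (EtCech.cechComplex Y S.X₂.obj).d 0 1 (z - (cxMap Y S.f.hom).f 0 b) = 0 := by
    rw [map_sub, ← ConcreteCategory.comp_apply ((cxMap Y S.f.hom).f 0), (cxMap Y S.f.hom).comm 0 1,
      ConcreteCategory.comp_apply, hb, hfC, sub_self]
  obtain ⟨r, hr⟩ := exists_glue_cocycle Y (hC.mem U ι Y hY).1 S.X₂ _ hz'
  refine ⟨r, ?_⟩
  have hP : Presieve.IsSheaf X.smallEtaleTopology (S.X₃.obj ⋙ forget AddCommGrpCat.{u + 1}) :=
    (isSheaf_iff_isSheaf_of_type _ _).1 ((sheafCompose _ (forget AddCommGrpCat.{u + 1})).obj S.X₃).property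
  refine ((hP _ (hC.mem U ι Y hY).1).isSeparatedFor).ext fun V g hg => ?_
  obtain ⟨i, w, rfl⟩ := (Sieve.mem_ofArrows_iff _ _ _).1 hg
  let p : Tup Y 0 V := ⟨fun _ => ⟨i, equivShrink _ w⟩, fun _ _ => rfl⟩
  have hp : (p.1 0).toU = w ≫ (Y i).hom := by simp [p, Elt.toU]
  show S.X₃.obj.map (w ≫ (Y i).hom).op (S.g.hom.app (op U) r) = S.X₃.obj.map (w ≫ (Y i).hom).op s
  rw [← NatTrans.naturality_apply S.g.hom, ← hp, hr V p]
  unfold ev0
  rw [NatTrans.naturality_apply S.g.hom, map_sub, hzval, map_sub, ht]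
  rw [show val Y S.X₂.obj 0 p.idx ((cxMap Y S.f.hom).f 0 b) = S.f.hom.app _ (val Y S.X₁.obj 0 p.idx b) from
    val_map Y S.f.hom 0 p.idx b]
  rw [show S.g.hom.app _ (S.f.hom.app _ (val Y S.X₁.obj 0 p.idx b)) = (0 : S.X₃.obj.obj _) from
    ConcreteCategory.congr_hom (congrArg (fun k => k.hom.app (op (inter Y 0 p.idx).left)) S.zero) _, sub_zero,
    ← ConcreteCategory.comp_apply, ← S.X₃.obj.map_comp, ← op_comp]
  congr 4
  show p.lift ≫ (inter Y 0 p.idx).hom = _
  rw [← Over.w (Pi.π (fun k => Y (p.idx k)) 0), ← Category.assoc]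
  exact congrArg (· ≫ (Y i).hom) (p.lift_π 0)

/-- Čech complexes of a sequence exact on intersections -/
theorem shortExact_cech {S : ShortComplex (EtCoh.Ab X)} (hS : S.ShortExact) {U : X.Etale} {ι : Type (u + 1)}
    (Y : ι → Over U)
    (hsur : ∀ (p : ℕ) (a : Fin (p + 1) → ι), Function.Surjective (S.g.hom.app (op (inter Y p a).left))) :
    (ShortComplex.mk (cxMap Y S.f.hom) (cxMap Y S.g.hom) (by
      refine HomologicalComplex.Hom.ext (funext fun n => AddCommGrpCat.hom_ext (AddMonoidHom.ext fun x =>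
        (val_bijective Y S.X₃.obj n).1 (funext fun a => ?_)))
      show val Y S.X₃.obj n a ((cxMap Y S.g.hom).f n ((cxMap Y S.f.hom).f n x)) = val Y S.X₃.obj n a 0
      refine (val_map Y S.g.hom n a _).trans ?_
      refine (congrArg _ (val_map Y S.f.hom n a x)).trans ?_
      refine (ConcreteCategory.congr_hom (congrArg (fun k => k.hom.app (op (inter Y n a).left)) S.zero) _).trans ?_
      exact (map_zero (val Y S.X₃.obj n a)).symm)).ShortExact := by
  refine HomologicalComplex.shortExact_of_degreewise_shortExact _ fun n => ?_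
  have hinj : ∀ V : X.Etale, Function.Injective (S.f.hom.app (op V)) :=
    S14452.injective_app_of_mono S.f hS.mono_f
  refine ShortComplex.ShortExact.mk' ?_ ?_ ?_
  · rw [ShortComplex.ab_exact_iff]
    intro x hx
    have hx' : ∀ a, S.g.hom.app _ (val Y S.X₂.obj n a x) = 0 := fun a =>
      (val_map Y S.g.hom n a x).symm.trans ((congrArg (val Y S.X₃.obj n a) hx).trans (map_zero _))
    choose w hw using fun a => S14452.exact_sections hS _ _ (hx' a)
    obtain ⟨y, hy⟩ := (val_bijective Y S.X₁.obj n).2 w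
    refine ⟨y, (val_bijective Y S.X₂.obj n).1 (funext fun a => (val_map Y S.f.hom n a y).trans ?_)⟩
    rw [show val Y S.X₁.obj n a y = w a from congrFun hy a, hw]
  · refine (AddCommGrpCat.mono_iff_injective _).2 fun x y hxy => (val_bijective Y S.X₁.obj n).1 (funext fun a => hinj _ ?_)
    exact (val_map Y S.f.hom n a x).symm.trans ((congrArg _ hxy).trans (val_map Y S.f.hom n a y))
  · refine (AddCommGrpCat.epi_iff_surjective _).2 fun z => ?_
    choose w hw using fun a => hsur n a (val Y S.X₃.obj n a z)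
    obtain ⟨x, hx⟩ := (val_bijective Y S.X₂.obj n).2 w
    refine ⟨x, (val_bijective Y S.X₃.obj n).1 (funext fun a => (val_map Y S.g.hom n a x).trans ?_)⟩
    rw [show val Y S.X₂.obj n a x = w a from congrFun hx a, hw]

/-- the quotient of Čech acyclic sheaves is Čech acyclic -/
theorem IsCovSys.quot (hC : IsCovSys B Cov) {S : ShortComplex (EtCoh.Ab X)} (hS : S.ShortExact)
    (h₁ : CechAcyclic Cov S.X₁) (h₂ : CechAcyclic Cov S.X₂) : CechAcyclic Cov S.X₃ := by
  intro U ι Y hY q
  have hT := shortExact_cech hS Y fun p a => hC.surjective hS h₁ ((hC.mem U ι Y hY).2 p a)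
  exact (hT.homology_exact₃ (q + 1) (q + 2) rfl).isZero_X₂ ((h₂ U ι Y hY q).eq_of_src _ _)
    ((h₁ U ι Y hY (q + 1)).eq_of_tgt _ _)

/-- Cartan's criterion -/
theorem IsCovSys.acyclic (hC : IsCovSys B Cov) : ∀ (q : ℕ) (F : EtCoh.Ab X), CechAcyclic Cov F →
    ∀ W ∈ B, Subsingleton (EtCoh.H W.left ((EtCoh.pull W.hom).obj F) (q + 1)) := by
  intro q
  induction q with
  | zero =>
    intro F hF W hW
    haveI : Etale W.hom := W.prop
    haveI : EtShriek.JCont W.hom := EtSh.jCont_hom W
    let S := ShortComplex.mk (Injective.ι F) (cokernel.π (Injective.ι F)) (cokernel.condition _)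
    have hS : S.ShortExact :=
      { exact := S.exact_of_g_is_cokernel (cokernelIsCokernel _)
        mono_f := inferInstanceAs (Mono (Injective.ι F))
        epi_g := inferInstanceAs (Epi (cokernel.π (Injective.ι F))) }
    haveI : Injective S.X₂ := inferInstanceAs (Injective (Injective.under F))
    have hT := EtSh.shortExact_restr W hS
    haveI : Injective (S.map (EtShriek.restrAlong W.hom)).X₂ := EtSh.injective_restr W S.X₂
    refine (EtSh.subsingleton_H_restr_iff W F _).1 (CohAcyc.subsingleton_one_of_lift hT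
      (inferInstanceAs (Subsingleton (EtCoh.H W.left (S.map (EtShriek.restrAlong W.hom)).X₂ (0 + 1)))) fun s => ?_)
    let hT' := EtSh.topTerminal W.left
    let S' := S.map (EtShriek.restrAlong W.hom)
    let k : (EtShriek.compEtale W.hom).obj (EtCoh.top W.left) ≅ W :=
      MorphismProperty.Over.isoMk (Iso.refl _) ((Category.id_comp _).trans (Category.id_comp _).symm)
    let s₀ := Sheaf.H.equiv₀ S'.X₃ hT' (Ext.addEquiv₀.symm s)
    obtain ⟨a₀, ha₀⟩ := hC.surjective hS hF hW (S.X₃.obj.map k.inv.op s₀)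
    let a : S'.X₂.obj.obj (op (EtCoh.top W.left)) := S.X₂.obj.map k.hom.op a₀
    have ha : S'.g.hom.app (op (EtCoh.top W.left)) a = s₀ := by
      show S.g.hom.app _ (S.X₂.obj.map k.hom.op a₀) = s₀
      rw [NatTrans.naturality_apply S.g.hom k.hom.op a₀, ha₀, ← ConcreteCategory.comp_apply, ← S.X₃.obj.map_comp,
        ← op_comp, k.hom_inv_id, op_id, S.X₃.obj.map_id]
      rfl
    refine ⟨Ext.addEquiv₀ ((Sheaf.H.equiv₀ S'.X₂ hT').symm a), ?_⟩
    rw [← Sheaf.H.addEquiv₀_map]
    have := Sheaf.H.equiv₀_naturality hT' S'.g ((Sheaf.H.equiv₀ S'.X₂ hT').symm a)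
    rw [AddEquiv.apply_symm_apply, ha] at this
    rw [← (Sheaf.H.equiv₀ S'.X₃ hT').injective this, AddEquiv.apply_symm_apply]
  | succ q ih =>
    intro F hF W hW
    haveI : Etale W.hom := W.prop
    haveI : EtShriek.JCont W.hom := EtSh.jCont_hom W
    let S := ShortComplex.mk (Injective.ι F) (cokernel.π (Injective.ι F)) (cokernel.condition _)
    have hS : S.ShortExact :=
      { exact := S.exact_of_g_is_cokernel (cokernelIsCokernel _)
        mono_f := inferInstanceAs (Mono (Injective.ι F))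
        epi_g := inferInstanceAs (Epi (cokernel.π (Injective.ι F))) }
    haveI : Injective S.X₂ := inferInstanceAs (Injective (Injective.under F))
    refine (EtSh.subsingleton_H_restr_iff W F _).1 (CohAcyc.subsingleton_succ_of_ses (EtSh.shortExact_restr W hS)
      ((EtSh.subsingleton_H_restr_iff W _ _).2 (ih S.X₃ (hC.quot hS hF (cechAcyclic_of_injective S.X₂)) W hW))
      ((EtSh.subsingleton_H_restr_iff W _ _).2 (EtSh.flasque_of_injective S.X₂ W (q + 1 + 1) (by omega))))

end Groth.Agent.EtCechLib
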