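import Groth.Agent.EtCechLib.Torsion
import Groth.Agent.EtSh.SectionsColimQC

/-!
# Čech complexes of finite qcqs families commute with filtered colimits of sheaves
-/

noncomputable section

set_option autoImplicit false
set_option backward.isDefEq.respectTransparency.types false

universe u w w'

open CategoryTheory CategoryTheory.Limits AlgebraicGeometry Opposite CategoryTheory.Abelian

namespace Groth.Agent.EtCechLib

open Groth.Agent.EtSh

variable {X : Scheme.{u}} {J : Type w} [Category.{w'} J] [IsFiltered J]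
  [HasColimitsOfShape J AddCommGrpCat.{u + 1}]
  [PreservesColimitsOfShape J (forget AddCommGrpCat.{u + 1})]
  {D : J ⥤ EtCoh.Ab X} {c : Cocone D} (hc : IsColimit c)
  {U : X.Etale} {ι : Type (u + 1)} [Finite ι] (Y : ι → Over U)

omit [IsFiltered J] [HasColimitsOfShape J AddCommGrpCat.{u + 1}]
  [PreservesColimitsOfShape J (forget AddCommGrpCat.{u + 1})] in
/-- the maps of a cocone -/
abbrev ιc (c : Cocone D) (K : J) : D.obj K ⟶ c.pt := c.ι.app K

omit [IsFiltered J] [HasColimitsOfShape J AddCommGrpCat.{u + 1}]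
  [PreservesColimitsOfShape J (forget AddCommGrpCat.{u + 1})] in
theorem ιc_w (c : Cocone D) {K L : J} (a : K ⟶ L) : D.map a ≫ ιc c L = ιc c K := c.w a

include hc in
theorem exists_cochain_rep (n : ℕ) (hq : ∀ a : Fin (n + 1) → ι, (inter Y n a).left ∈ qcqsObj)
    (x : ((EtCech.cechComplex Y c.pt.obj).X n : AddCommGrpCat.{u + 1})) :
    ∃ (K : J) (y : ((EtCech.cechComplex Y (D.obj K).obj).X n : AddCommGrpCat.{u + 1})),
      (cxMap Y (ιc c K).hom).f n y = x := by
  classical
  haveI : Fintype ι := Fintype.ofFinite ι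
  have key : ∀ a, ∃ (i : J) (r : EtCoh.sect (D.obj i) (inter Y n a).left),
      (ιc c i).hom.app (op (inter Y n a).left) r = val Y c.pt.obj n a x := fun a => by
    haveI := (hq a).1; haveI := (hq a).2
    exact exists_sect_rep_qcqs hc _
  choose i r hr using key
  obtain ⟨K, hK⟩ := IsFiltered.sup_objs_exists (Finset.univ.image i)
  have m : ∀ a, Nonempty (i a ⟶ K) := fun a => hK (Finset.mem_image_of_mem i (Finset.mem_univ a))
  obtain ⟨y, hy⟩ := (val_bijective Y (D.obj K).obj n).2 fun a => (D.map (m a).some).hom.app _ (r a)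
  refine ⟨K, y, (val_bijective Y c.pt.obj n).1 (funext fun a => ?_)⟩
  refine (val_map Y (ιc c K).hom n a y).trans ?_
  rw [show val Y (D.obj K).obj n a y = _ from congrFun hy a]
  refine Eq.trans ?_ (hr a)
  exact congrArg (fun f : D.obj (i a) ⟶ c.pt => f.hom.app (op (inter Y n a).left) (r a)) (ιc_w c (m a).some)

include hc in
theorem exists_cochain_eq_zero (n : ℕ) (hq : ∀ a : Fin (n + 1) → ι, (inter Y n a).left ∈ qcqsObj)
    (K : J) (y : ((EtCech.cechComplex Y (D.obj K).obj).X n : AddCommGrpCat.{u + 1}))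
    (hy : (cxMap Y (ιc c K).hom).f n y = 0) :
    ∃ (L : J) (b : K ⟶ L), (cxMap Y (D.map b).hom).f n y = 0 := by
  classical
  haveI : Fintype ι := Fintype.ofFinite ι
  have key : ∀ a, ∃ (k : J) (b : K ⟶ k), (D.map b).hom.app _ (val Y (D.obj K).obj n a y) = 0 := fun a => by
    haveI := (hq a).1
    exact exists_sect_eq_zero hc _
      ((val_map Y (ιc c K).hom n a y).symm.trans ((congrArg (val Y c.pt.obj n a) hy).trans (map_zero _)))
  choose k b hb using key
  obtain ⟨L, B, hB⟩ := exists_common_stage (Finset.univ : Finset (Fin (n + 1) → ι)) K k b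
  refine ⟨L, B, (val_bijective Y (D.obj L).obj n).1 (funext fun a => ?_)⟩
  refine (val_map Y (D.map B).hom n a y).trans ?_
  obtain ⟨r, hr⟩ := hB a (Finset.mem_univ a)
  rw [← hr, D.map_comp]
  show (D.map r).hom.app _ ((D.map (b a)).hom.app _ (val Y (D.obj K).obj n a y)) = val Y (D.obj L).obj n a 0
  rw [hb, map_zero, map_zero]

omit [Finite ι] in
theorem cxMap_comp_apply {P Q R : EtCoh.Ab X} (φ : P ⟶ Q) (ψ : Q ⟶ R) (n : ℕ)
    (y : ((EtCech.cechComplex Y P.obj).X n : AddCommGrpCat.{u + 1})) :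
    (cxMap Y ψ.hom).f n ((cxMap Y φ.hom).f n y) = (cxMap Y (φ ≫ ψ).hom).f n y := by
  refine (val_bijective Y R.obj n).1 (funext fun a => ?_)
  refine (val_map Y ψ.hom n a _).trans ((congrArg _ (val_map Y φ.hom n a y)).trans ?_)
  exact (val_map Y (φ ≫ ψ).hom n a y).symm

omit [Finite ι] in
theorem cxMap_d {P Q : EtCoh.Ab X} (φ : P ⟶ Q) (n m : ℕ)
    (y : ((EtCech.cechComplex Y P.obj).X n : AddCommGrpCat.{u + 1})) :
    (cxMap Y φ.hom).f m ((EtCech.cechComplex Y P.obj).d n m y) =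
      (EtCech.cechComplex Y Q.obj).d n m ((cxMap Y φ.hom).f n y) :=
  (ConcreteCategory.congr_hom ((cxMap Y φ.hom).comm n m) y).symm

include hc in
/-- a cocycle of the colimit comes from a stage -/
theorem exists_cocycle_rep (hq : ∀ (n : ℕ) (a : Fin (n + 1) → ι), (inter Y n a).left ∈ qcqsObj) (n : ℕ)
    (x : ((EtCech.cechComplex Y c.pt.obj).X n : AddCommGrpCat.{u + 1}))
    (hx : (EtCech.cechComplex Y c.pt.obj).d n (n + 1) x = 0) :
    ∃ (K : J) (y : ((EtCech.cechComplex Y (D.obj K).obj).X n : AddCommGrpCat.{u + 1})),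
      (EtCech.cechComplex Y (D.obj K).obj).d n (n + 1) y = 0 ∧ (cxMap Y (ιc c K).hom).f n y = x := by
  obtain ⟨K, y, hy⟩ := exists_cochain_rep hc Y n (hq n) x
  obtain ⟨L, b, hb⟩ := exists_cochain_eq_zero hc Y (n + 1) (hq (n + 1)) K
    ((EtCech.cechComplex Y (D.obj K).obj).d n (n + 1) y) (by rw [cxMap_d, hy, hx])
  refine ⟨L, (cxMap Y (D.map b).hom).f n y, by rw [← cxMap_d, hb], ?_⟩
  rw [cxMap_comp_apply, ιc_w c b, hy]

include hc in
/-- filtered colimits of Čech acyclic sheaves are Čech acyclic -/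
theorem exact_cechComplex (hq : ∀ (n : ℕ) (a : Fin (n + 1) → ι), (inter Y n a).left ∈ qcqsObj) (q : ℕ)
    (h : ∀ j, IsZero (EtCech.cechH Y (D.obj j).obj (q + 1))) :
    IsZero (EtCech.cechH Y c.pt.obj (q + 1)) := by
  refine HomologicalComplex.ExactAt.isZero_homology ?_
  rw [HomologicalComplex.exactAt_iff' _ q (q + 1) (q + 2) (CochainComplex.prev_nat_succ q) (CochainComplex.next ℕ (q + 1)),
    ShortComplex.ab_exact_iff]
  intro x hx
  obtain ⟨K, y, hy, rfl⟩ := exists_cocycle_rep hc Y hq (q + 1) x hx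
  have he := (HomologicalComplex.exactAt_iff_isZero_homology _ _).2 (h K)
  rw [HomologicalComplex.exactAt_iff' _ q (q + 1) (q + 2) (CochainComplex.prev_nat_succ q) (CochainComplex.next ℕ (q + 1)),
    ShortComplex.ab_exact_iff] at he
  obtain ⟨z, hz⟩ := he y hy
  exact ⟨(cxMap Y (ιc c K).hom).f q z, (cxMap_d Y (ιc c K) q (q + 1) z).symm.trans (congrArg _ hz)⟩

theorem exists_cycle {K : CochainComplex AddCommGrpCat.{u + 1} ℕ} (n : ℕ) (x : K.X n) (hx : K.d n (n + 1) x = 0) :
    ∃ z : K.cycles n, K.iCycles n z = x :=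
  (ShortComplex.ab_exact_iff (ShortComplex.mk (K.iCycles n) (K.d n (n + 1)) (K.iCycles_d n (n + 1)))).1
    (ShortComplex.exact_of_f_is_kernel _ (K.cyclesIsKernel n (n + 1) (by simp))) x hx

theorem homologyπ_surjective {K : CochainComplex AddCommGrpCat.{u + 1} ℕ} (n : ℕ) :
    Function.Surjective (K.homologyπ n) :=
  (AddCommGrpCat.epi_iff_surjective _).1 inferInstance

include hc in
theorem exists_cechH_rep (hq : ∀ (n : ℕ) (a : Fin (n + 1) → ι), (inter Y n a).left ∈ qcqsObj) (n : ℕ)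
    (ξ : EtCech.cechH Y c.pt.obj n) :
    ∃ (K : J) (η : EtCech.cechH Y (D.obj K).obj n), HomologicalComplex.homologyMap (cxMap Y (ιc c K).hom) n η = ξ := by
  obtain ⟨z, rfl⟩ := homologyπ_surjective n ξ
  obtain ⟨K, y, hy, hyz⟩ := exists_cocycle_rep hc Y hq n ((EtCech.cechComplex Y c.pt.obj).iCycles n z)
    (ConcreteCategory.congr_hom ((EtCech.cechComplex Y c.pt.obj).iCycles_d n (n + 1)) z)
  obtain ⟨w, rfl⟩ := exists_cycle n y hy
  refine ⟨K, (EtCech.cechComplex Y (D.obj K).obj).homologyπ n w, ?_⟩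
  refine (ConcreteCategory.congr_hom (HomologicalComplex.homologyπ_naturality (cxMap Y (ιc c K).hom) n) w).trans
    (congrArg ((EtCech.cechComplex Y c.pt.obj).homologyπ n) ?_)
  refine (AddCommGrpCat.mono_iff_injective ((EtCech.cechComplex Y c.pt.obj).iCycles n)).1 inferInstance ?_
  exact (ConcreteCategory.congr_hom (HomologicalComplex.cyclesMap_i (cxMap Y (ιc c K).hom) n) w).trans hyz

theorem homologyπ_eq_zero_iff {K : CochainComplex AddCommGrpCat.{u + 1} ℕ} (n : ℕ) (z : K.cycles n) :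
    K.homologyπ n z = 0 ↔ ∃ t : K.X ((ComplexShape.up ℕ).prev n), K.d _ n t = K.iCycles n z := by
  constructor
  · intro h
    obtain ⟨t, ht⟩ := (ShortComplex.ab_exact_iff (ShortComplex.mk (K.toCycles _ n) (K.homologyπ n)
      (K.toCycles_comp_homologyπ _ n))).1 (ShortComplex.exact_of_g_is_cokernel _ (K.homologyIsCokernel _ n rfl)) z h
    exact ⟨t, (ConcreteCategory.congr_hom (K.toCycles_i _ n) t).symm.trans (congrArg (K.iCycles n) ht)⟩
  · rintro ⟨t, ht⟩
    rw [← (AddCommGrpCat.mono_iff_injective (K.iCycles n)).1 inferInstance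
      ((ConcreteCategory.congr_hom (K.toCycles_i _ n) t).trans ht)]
    exact ConcreteCategory.congr_hom (K.toCycles_comp_homologyπ _ n) t

include hc in
theorem exists_cechH_eq_zero (hq : ∀ (n : ℕ) (a : Fin (n + 1) → ι), (inter Y n a).left ∈ qcqsObj) (n : ℕ)
    (K : J) (η : EtCech.cechH Y (D.obj K).obj n)
    (hη : HomologicalComplex.homologyMap (cxMap Y (ιc c K).hom) n η = 0) :
    ∃ (L : J) (b : K ⟶ L), HomologicalComplex.homologyMap (cxMap Y (D.map b).hom) n η = 0 := by
  obtain ⟨z, rfl⟩ := homologyπ_surjective n η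
  obtain ⟨t, ht⟩ := (homologyπ_eq_zero_iff n _).1
    ((ConcreteCategory.congr_hom (HomologicalComplex.homologyπ_naturality (cxMap Y (ιc c K).hom) n) z).symm.trans hη)
  obtain ⟨K₁, t₁, rfl⟩ := exists_cochain_rep hc Y _ (hq _) t
  let M := IsFiltered.max K K₁
  let a : K ⟶ M := IsFiltered.leftToMax K K₁
  let a₁ : K₁ ⟶ M := IsFiltered.rightToMax K K₁
  let y := (EtCech.cechComplex Y (D.obj M).obj).d _ n ((cxMap Y (D.map a₁).hom).f _ t₁) -
    (cxMap Y (D.map a).hom).f n ((EtCech.cechComplex Y (D.obj K).obj).iCycles n z)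
  obtain ⟨L, b, hb⟩ := exists_cochain_eq_zero hc Y n (hq n) M y (by
    rw [map_sub, cxMap_d, cxMap_comp_apply, ιc_w c a₁, cxMap_comp_apply, ιc_w c a, sub_eq_zero, ht]
    exact ConcreteCategory.congr_hom (HomologicalComplex.cyclesMap_i (cxMap Y (ιc c K).hom) n) z)
  refine ⟨L, a ≫ b, ?_⟩
  refine (ConcreteCategory.congr_hom (HomologicalComplex.homologyπ_naturality (cxMap Y (D.map (a ≫ b)).hom) n) z).trans
    ((homologyπ_eq_zero_iff n _).2 ⟨(cxMap Y (D.map (a₁ ≫ b)).hom).f _ t₁, ?_⟩)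
  refine Eq.trans ?_ (ConcreteCategory.congr_hom (HomologicalComplex.cyclesMap_i (cxMap Y (D.map (a ≫ b)).hom) n) z).symm
  rw [map_sub, cxMap_d, cxMap_comp_apply, ← D.map_comp, cxMap_comp_apply, ← D.map_comp, sub_eq_zero] at hb
  exact hb

end Groth.Agent.EtCechLib
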