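import Groth.Agent.EtCechLib.CohColim
import Groth.Agent.EtSh.IndConstructible
import Groth.Agent.EtSh.Compact

/-!
# Cohomology is effaceable on constructible sheaves
-/

noncomputable section

set_option autoImplicit false
set_option backward.isDefEq.respectTransparency.types false

universe u

open CategoryTheory CategoryTheory.Limits AlgebraicGeometry Opposite

namespace Groth.Agent.EtCechLib

open Groth.Agent.EtSh

variable {X : Scheme.{u}}

theorem isTorsion_of_isConstructible {F : EtCoh.Ab X} (hF : EtPBC.IsConstructible F) : EtCoh.IsTorsion F :=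
  isTorsion_of_germTors fun U s Ω _ _ ξ t => by
    haveI := finite_stalk hF ξ
    exact isOfFinAddOrder_of_finite _

theorem exists_efface [CompactSpace X] [QuasiSeparatedSpace X] (F : EtCoh.Ab X) (hF : EtPBC.IsConstructible F)
    (q : ℕ) (α : EtCoh.H X F (q + 1)) :
    ∃ (G : EtCoh.Ab X) (u : F ⟶ G), EtPBC.IsConstructible G ∧ Mono u ∧ (EtCoh.HF X (q + 1)).map u α = 0 := by
  obtain ⟨S, hS, rfl, hT, hC, -⟩ := exists_embedding F (isTorsion_of_isConstructible hF)
  haveI := isIso_desc S.X₂ hT
  let D := indDiagram S.X₂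
  let e : colimit D ≅ S.X₂ := @asIso _ _ _ _ (colimit.desc D (indCocone S.X₂)) (isIso_desc S.X₂ hT)
  obtain ⟨k, h, hh⟩ := exists_hom_rep (colimit.isColimit D) hF (S.f ≫ e.inv)
  have hh' : h ≫ colimit.ι D k = S.f ≫ e.inv := hh
  haveI := subsingleton_H_of_cechAcyclic q S.X₂ hC
  obtain ⟨m, a, ha⟩ := (exists_H_rep_and_zero (q + 1) D).2 k (Sheaf.H.map h (q + 1) α) (by
    rw [← Sheaf.H.map_comp_apply, hh', Sheaf.H.map_comp_apply, Subsingleton.elim (Sheaf.H.map S.f (q + 1) α) 0, map_zero])
  refine ⟨D.obj m, h ≫ D.map a, isConstructible_cval _, ?_, ?_⟩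
  · haveI := hS.mono_f
    haveI : Mono ((h ≫ D.map a) ≫ colimit.ι D m) := by
      rw [Category.assoc, colimit.w, hh']
      exact mono_comp _ _
    exact mono_of_mono _ (colimit.ι D m)
  · show Sheaf.H.map (h ≫ D.map a) (q + 1) α = 0
    rw [Sheaf.H.map_comp_apply]
    exact ha

end Groth.Agent.EtCechLib
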