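import Mathlib

/-!
# Affine coverings and the Čech acyclicity of the additive group
-/

noncomputable section

set_option autoImplicit false
set_option backward.isDefEq.respectTransparency.types false
set_option linter.style.haveILetI false

universe v w u

open CategoryTheory CategoryTheory.Limits AlgebraicGeometry Opposite TensorProduct

namespace Groth.Agent.EtCechLib


section Alg

variable {R : Type u} [CommRing R]

/-- a jointly surjective flat family detects zero -/
theorem eq_zero_of_forall_one_tmul {ι : Type w} (B : ι → Type u) [∀ i, CommRing (B i)] [∀ i, Algebra R (B i)]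
    [∀ i, Module.Flat R (B i)]
    (hcov : ∀ m : PrimeSpectrum R, ∃ (i : ι) (P : PrimeSpectrum (B i)), P.comap (algebraMap R (B i)) = m)
    {Q : Type v} [AddCommGroup Q] [Module R Q] (q : Q) (hq : ∀ i, (1 : B i) ⊗ₜ[R] q = 0) : q = 0 := by
  let I : Ideal R := LinearMap.ker (LinearMap.toSpanSingleton R Q q)
  suffices I = ⊤ by
    have h : (1 : R) ∈ I := this ▸ trivial
    simpa [I] using h
  by_contra hI
  obtain ⟨m, hm, hIm⟩ := Ideal.exists_le_maximal I hI
  obtain ⟨i, P, hP⟩ := hcov ⟨m, hm.isPrime⟩
  let e : (R ⧸ I) →ₗ[R] Q := Submodule.liftQ I (LinearMap.toSpanSingleton R Q q) le_rfl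
  have he : Function.Injective e := by
    rw [← LinearMap.ker_eq_bot]
    exact Submodule.ker_liftQ_eq_bot _ _ _ le_rfl
  have h1 : e.lTensor (B i) ((1 : B i) ⊗ₜ[R] Ideal.Quotient.mk I 1) = 0 := by
    rw [LinearMap.lTensor_tmul, ← hq i]
    congr 1
    show Submodule.liftQ I (LinearMap.toSpanSingleton R Q q) le_rfl (Submodule.Quotient.mk 1) = q
    rw [Submodule.liftQ_apply]
    simp
  have h2 : ((1 : B i) ⊗ₜ[R] Ideal.Quotient.mk I 1) = 0 :=
    Module.Flat.lTensor_preserves_injective_linearMap e he (h1.trans (map_zero _).symm)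
  let J := I.map (algebraMap R (B i))
  let ρ : R ⧸ I →ₐ[R] B i ⧸ J :=
    { Ideal.quotientMap J (algebraMap R (B i)) Ideal.le_comap_map with commutes' := fun r => rfl }
  have h3 := congrArg (Algebra.TensorProduct.productMap (Ideal.Quotient.mkₐ R J) ρ) h2
  rw [map_zero, Algebra.TensorProduct.productMap_apply_tmul, map_one, map_one, map_one, one_mul] at h3
  have h4 : J ≤ P.asIdeal := Ideal.map_le_iff_le_comap.2 (hIm.trans (congrArg PrimeSpectrum.asIdeal hP).ge)
  refine P.isPrime.ne_top ((Ideal.eq_top_iff_one _).2 (h4 ?_))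
  rw [← Ideal.Quotient.eq_zero_iff_mem, map_one]
  exact h3

/-- exactness can be checked on a jointly surjective flat family -/
theorem mem_range_of_forall {ι : Type w} (B : ι → Type u) [∀ i, CommRing (B i)] [∀ i, Algebra R (B i)]
    [∀ i, Module.Flat R (B i)]
    (hcov : ∀ m : PrimeSpectrum R, ∃ (i : ι) (P : PrimeSpectrum (B i)), P.comap (algebraMap R (B i)) = m)
    {C C' : Type v} [AddCommGroup C] [Module R C] [AddCommGroup C'] [Module R C'] (D : C →ₗ[R] C') (x : C')
    (hx : ∀ i, ∃ z, D.lTensor (B i) z = (1 : B i) ⊗ₜ[R] x) : x ∈ LinearMap.range D := by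
  have h := eq_zero_of_forall_one_tmul B hcov ((LinearMap.range D).mkQ x) fun i => by
    obtain ⟨z, hz⟩ := hx i
    rw [← LinearMap.lTensor_tmul, ← hz, ← LinearMap.comp_apply, ← LinearMap.lTensor_comp,
      LinearMap.range_mkQ_comp, LinearMap.lTensor_zero, LinearMap.zero_apply]
  rwa [Submodule.mkQ_apply, Submodule.Quotient.mk_eq_zero] at h

theorem piRight_ext {B : Type u} [CommRing B] [Algebra R B] {α : Type v} [Finite α] {M : α → Type u}
    [∀ a, AddCommGroup (M a)] [∀ a, Module R (M a)] {z z' : B ⊗[R] (∀ a, M a)}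
    (h : ∀ a, (LinearMap.proj a : (∀ a, M a) →ₗ[R] M a).lTensor B z =
      (LinearMap.proj a : (∀ a, M a) →ₗ[R] M a).lTensor B z') : z = z' := by
  classical
  cases nonempty_fintype α
  apply (TensorProduct.piRight R R B M).injective
  funext a
  have key : ∀ w : B ⊗[R] (∀ a, M a), TensorProduct.piRight R R B M w a =
      (LinearMap.proj a : (∀ a, M a) →ₗ[R] M a).lTensor B w := fun w => by
    induction w with
    | zero => simp
    | add p q hp hq => simp only [map_add, Pi.add_apply, hp, hq]
    | tmul b c => simp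
  rw [key, key, h a]

/-- elements of a tensor product with a finite product -/
theorem exists_lTensor_proj {B : Type u} [CommRing B] [Algebra R B] {α : Type v} [Finite α] {M : α → Type u}
    [∀ a, AddCommGroup (M a)] [∀ a, Module R (M a)] (c : ∀ a, B ⊗[R] M a) :
    ∃ z : B ⊗[R] (∀ a, M a), ∀ a, (LinearMap.proj a : (∀ a, M a) →ₗ[R] M a).lTensor B z = c a := by
  classical
  cases nonempty_fintype α
  refine ⟨(TensorProduct.piRight R R B M).symm c, fun a => ?_⟩
  have key : ∀ w : B ⊗[R] (∀ a, M a), TensorProduct.piRight R R B M w a =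
      (LinearMap.proj a : (∀ a, M a) →ₗ[R] M a).lTensor B w := fun w => by
    induction w with
    | zero => simp
    | add p q hp hq => simp only [map_add, Pi.add_apply, hp, hq]
    | tmul b c => simp
  rw [← key, LinearEquiv.apply_symm_apply]

/-- an alternating sum of maps between finite products, after tensoring -/
theorem lTensor_pi_sum {B : Type u} [CommRing B] [Algebra R B] {α : Type v} {β : Type v} {M : α → Type u}
    {N : β → Type u} [∀ a, AddCommGroup (M a)] [∀ a, Module R (M a)] [∀ a, AddCommGroup (N a)] [∀ a, Module R (N a)]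
    {κ : Type*} [Fintype κ] (σ : β → κ → α) (g : ∀ b j, M (σ b j) →ₗ[R] N b) (c : κ → ℤ) (z : B ⊗[R] (∀ a, M a))
    (b : β) :
    (LinearMap.proj b : (∀ b, N b) →ₗ[R] N b).lTensor B
      ((LinearMap.pi fun b => ∑ j, c j • (g b j ∘ₗ LinearMap.proj (σ b j))).lTensor B z) =
      ∑ j, c j • (g b j).lTensor B ((LinearMap.proj (σ b j) : (∀ a, M a) →ₗ[R] M _).lTensor B z) := by
  induction z with
  | zero => simp
  | add p q hp hq => simp only [map_add, hp, hq, ← Finset.sum_add_distrib, smul_add]
  | tmul x m =>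
    simp [TensorProduct.tmul_sum, TensorProduct.tmul_smul]

end Alg


end Groth.Agent.EtCechLib
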