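import Mathlib
import Groth.Agent.EtCechLib.GaAlg
import Groth.Agent.EtCechLib.AffCov
import Groth.Agent.EtCechLib.CohColim
import Groth.Prelude.Def_EtGm

/-!
# Affine coverings and the Čech acyclicity of the additive group
-/

noncomputable section

set_option autoImplicit false
set_option backward.isDefEq.respectTransparency.types false
set_option linter.style.haveILetI false

universe v w u

open CategoryTheory CategoryTheory.Limits AlgebraicGeometry Opposite TensorProduct

namespace Groth.Agent.EtCechLib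

open Groth.Agent.EtSh

variable {X : Scheme.{u}}

section Ga

/-- sections of `G_a` -/
theorem ga_map {U V : X.Etale} (g : V ⟶ U) (s : (EtCoh.Ga X).obj.obj (op U)) :
    ((EtCoh.Ga X).obj.map g.op s).down = g.left.appTop s.down := rfl

variable {U : X.Etale} {ι : Type (u + 1)} (Y : ι → Over U)

/-- ring of an object over `U` -/
abbrev Rg (Z : Over U) : Type u := Γ(Z.left.left, ⊤)

instance algRg (Z : Over U) : Algebra Γ(U.left, ⊤) (Rg Z) := Z.hom.left.appTop.hom.toAlgebra

/-- the map of rings of a morphism over `U` -/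
def rgMap {Z Z' : Over U} (g : Z ⟶ Z') : Rg Z' →ₐ[Γ(U.left, ⊤)] Rg Z :=
  { g.left.left.appTop.hom with
    commutes' := fun r => by
      show g.left.left.appTop (Z'.hom.left.appTop r) = Z.hom.left.appTop r
      rw [← CommRingCat.comp_apply, ← Scheme.Hom.comp_appTop]
      exact congrArg (fun k => (Scheme.Hom.appTop k) r) (congrArg (fun k => k.left) (Over.w g)) }

/-- components of a cochain of `G_a` -/
def xv (n : ℕ) (x : ((EtCech.cechComplex Y (EtCoh.Ga X).obj).X n : AddCommGrpCat.{u + 1}))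
    (a : Fin (n + 1) → ι) : Rg (inter Y n a) :=
  (val Y (EtCoh.Ga X).obj n a x).down

/-- evaluation of a cochain on a tuple -/
def ev (n : ℕ) (x : ((EtCech.cechComplex Y (EtCoh.Ga X).obj).X n : AddCommGrpCat.{u + 1}))
    {V : X.Etale} (p : Tup Y n V) : Γ(V.left, ⊤) :=
  p.lift.left.appTop (xv Y n x p.idx)

theorem ev_res (n : ℕ) (x : ((EtCech.cechComplex Y (EtCoh.Ga X).obj).X n : AddCommGrpCat.{u + 1}))
    {V W : X.Etale} (k : W ⟶ V) (p : Tup Y n V) : ev Y n x (p.res k) = k.left.appTop (ev Y n x p) := by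
  unfold ev
  rw [lift_res]
  rfl

theorem ev_univ (n : ℕ) (x : ((EtCech.cechComplex Y (EtCoh.Ga X).obj).X n : AddCommGrpCat.{u + 1}))
    (a : Fin (n + 1) → ι) : ev Y n x (univTup Y n a) = xv Y n x a := by
  unfold ev
  rw [lift_univTup]
  rfl

theorem ev_d (n : ℕ) (x : ((EtCech.cechComplex Y (EtCoh.Ga X).obj).X n : AddCommGrpCat.{u + 1}))
    {V : X.Etale} (p : Tup Y (n + 1) V) :
    ev Y (n + 1) ((EtCech.cechComplex Y (EtCoh.Ga X).obj).d n (n + 1) x) p =
      ∑ j : Fin (n + 2), ((-1 : ℤ) ^ (j : ℕ)) • ev Y n x (p.face j) := by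
  unfold ev xv
  rw [val_d]
  have hdown : ∀ (W : X.Etale) (f : Fin (n + 2) → (EtCoh.Ga X).obj.obj (op W)),
      (∑ j, f j).down = ∑ j, (f j).down := fun W f =>
    map_sum (AddEquiv.ulift (α := Γ(W.left, ⊤))).toAddMonoidHom f Finset.univ
  rw [hdown]
  erw [map_sum]
  refine Finset.sum_congr rfl fun j _ => ?_
  rw [lift_face]
  show p.lift.left.appTop ((((-1 : ℤ) ^ (j : ℕ)) • _ : (EtCoh.Ga X).obj.obj (op _)).down) = _
  exact map_zsmul p.lift.left.appTop.hom _ _

/-- a member covers each point -/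
theorem exists_point_over {U : X.Etale} {ι : Type (u + 1)} (Y : ι → Over U)
    (hcov : Sieve.ofArrows (fun i => (Y i).left) (fun i => (Y i).hom) ∈ X.smallEtaleTopology U)
    (u' : U.left) : ∃ (i : ι) (w : (Y i).left.left), (Y i).hom.left w = u' := by
  obtain ⟨W, g, w, hg, hw⟩ := (mem_topology_iff _).1 hcov u'
  obtain ⟨i, h, rfl⟩ := (Sieve.mem_ofArrows_iff _ _ _).1 hg
  exact ⟨i, h.left w, hw⟩

section Fib

variable (i : ι)

/-- the fibre product with a member -/
abbrev fp (Z : Over U) : Over U := Over.mk (pullback.snd (Y i).hom Z.hom ≫ Z.hom)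

abbrev fpFst (Z : Over U) : fp Y i Z ⟶ Y i := Over.homMk (pullback.fst (Y i).hom Z.hom) pullback.condition

abbrev fpSnd (Z : Over U) : fp Y i Z ⟶ Z := Over.homMk (pullback.snd (Y i).hom Z.hom) rfl

/-- functoriality of the fibre product -/
def fpMap {Z Z' : Over U} (g : Z ⟶ Z') : fp Y i Z ⟶ fp Y i Z' :=
  Over.homMk (pullback.lift (pullback.fst (Y i).hom Z.hom) (pullback.snd (Y i).hom Z.hom ≫ g.left)
    (by rw [Category.assoc, Over.w, pullback.condition]))
    ((pullback.lift_snd_assoc _ _ _ _).trans (by rw [Category.assoc, Over.w]; rfl))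

theorem fpMap_left_fst {Z Z' : Over U} (g : Z ⟶ Z') :
    (fpMap Y i g).left ≫ pullback.fst (Y i).hom Z'.hom = pullback.fst (Y i).hom Z.hom :=
  pullback.lift_fst _ _ _

theorem fpMap_left_snd {Z Z' : Over U} (g : Z ⟶ Z') :
    (fpMap Y i g).left ≫ pullback.snd (Y i).hom Z'.hom = pullback.snd (Y i).hom Z.hom ≫ g.left :=
  pullback.lift_snd _ _ _

/-- the comparison with the tensor product -/
def fpTens (Z : Over U) : Rg (Y i) ⊗[Γ(U.left, ⊤)] Rg Z →ₐ[Γ(U.left, ⊤)] Rg (fp Y i Z) :=
  Algebra.TensorProduct.productMap (rgMap (fpFst Y i Z)) (rgMap (fpSnd Y i Z))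

theorem fpTens_natural {Z Z' : Over U} (g : Z ⟶ Z') (z : Rg (Y i) ⊗[Γ(U.left, ⊤)] Rg Z') :
    fpTens Y i Z ((rgMap g).toLinearMap.lTensor _ z) = rgMap (fpMap Y i g) (fpTens Y i Z' z) := by
  induction z with
  | zero => simp
  | add p r hp hr => simp only [map_add, hp, hr]
  | tmul b m =>
    rw [LinearMap.lTensor_tmul]
    simp only [fpTens, Algebra.TensorProduct.productMap_apply_tmul, map_mul]
    congr 1
    · exact (congrArg (fun k => (Scheme.Hom.appTop k) b)
        (congrArg (fun k => k.left) (fpMap_left_fst Y i g))).symm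
    · exact (congrArg (fun k => (Scheme.Hom.appTop k) m)
        (congrArg (fun k => k.left) (fpMap_left_snd Y i g))).symm

theorem fpTens_bijective [IsAffine U.left] [IsAffine (Y i).left.left] (Z : Over U) [IsAffine Z.left.left] :
    Function.Bijective (fpTens Y i Z) := by
  have hsq := (IsPullback.of_hasPullback (Y i).hom Z.hom).map (Scheme.Etale.forget X ⋙ Over.forget X)
  haveI : IsAffine ((Scheme.Etale.forget X ⋙ Over.forget X).obj (Y i).left) := ‹IsAffine (Y i).left.left›
  haveI : IsAffine ((Scheme.Etale.forget X ⋙ Over.forget X).obj Z.left) := ‹IsAffine Z.left.left›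
  haveI : IsAffine ((Scheme.Etale.forget X ⋙ Over.forget X).obj U) := ‹IsAffine U.left›
  have hpo := isPushout_appTop_of_isPullback hsq
  have hT := CommRingCat.isPushout_tensorProduct Γ(U.left, ⊤) (Rg (Y i)) (Rg Z)
  let E := hT.isoIsPushout _ _ hpo
  have hE : CommRingCat.ofHom (fpTens Y i Z).toRingHom = E.hom := by
    refine hT.hom_ext ?_ ?_
    · refine Eq.trans ?_ (IsPushout.inl_isoIsPushout_hom (h := hT) (h' := hpo)).symm
      ext b
      show fpTens Y i Z (b ⊗ₜ 1) = _
      rw [fpTens, Algebra.TensorProduct.productMap_left_apply]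
      rfl
    · refine Eq.trans ?_ (IsPushout.inr_isoIsPushout_hom (h := hT) (h' := hpo)).symm
      ext b
      show fpTens Y i Z (1 ⊗ₜ b) = _
      rw [fpTens, Algebra.TensorProduct.productMap_right_apply]
      rfl
  have := E.commRingCatIsoToRingEquiv.bijective
  exact (show ⇑(fpTens Y i Z) = ⇑E.hom from congrArg
    (fun (k : CommRingCat.of (Rg (Y i) ⊗[Γ(U.left, ⊤)] Rg Z) ⟶ _) => ⇑k) hE) ▸ this

/-- prepend a member to the universal tuple -/
def pTup (n : ℕ) (a : Fin (n + 1) → ι) : Tup Y (n + 1) (fp Y i (inter Y n a)).left :=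
  ⟨Fin.cons ⟨i, equivShrink _ (pullback.fst (Y i).hom (inter Y n a).hom)⟩
    ((univTup Y n a).res (pullback.snd (Y i).hom (inter Y n a).hom)).1, by
    have h : ∀ k, ((Fin.cons ⟨i, equivShrink _ (pullback.fst (Y i).hom (inter Y n a).hom)⟩
        ((univTup Y n a).res (pullback.snd (Y i).hom (inter Y n a).hom)).1 :
          Fin (n + 2) → Elt Y (fp Y i (inter Y n a)).left) k).toU =
        pullback.snd (Y i).hom (inter Y n a).hom ≫ (inter Y n a).hom := fun k => by
      induction k using Fin.cases with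
      | zero =>
        rw [Fin.cons_zero]
        show (equivShrink _).symm (equivShrink _ _) ≫ _ = _
        rw [Equiv.symm_apply_apply]
        exact pullback.condition
      | succ k =>
        rw [Fin.cons_succ]
        show (equivShrink _).symm (equivShrink _ (_ ≫ (equivShrink _).symm (equivShrink _ _))) ≫ _ = _
        rw [Equiv.symm_apply_apply, Equiv.symm_apply_apply, Category.assoc, Over.w]
    exact fun k l => (h k).trans (h l).symm⟩

theorem pTup_face_zero (n : ℕ) (a : Fin (n + 1) → ι) :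
    (pTup Y i n a).face 0 = (univTup Y n a).res (fpSnd Y i (inter Y n a)).left :=
  Subtype.ext (funext fun l => by simp [pTup])

theorem pTup_face_succ (n : ℕ) (a : Fin (n + 2) → ι) (j : Fin (n + 2)) :
    (pTup Y i (n + 1) a).face j.succ =
      (pTup Y i n (fun l => a (j.succAbove l))).res (fpMap Y i (proj Y n a j)).left := by
  refine Subtype.ext (funext fun l => ?_)
  induction l using Fin.cases with
  | zero =>
    simp only [pTup, Fin.succ_succAbove_zero, Fin.cons_zero]
    show _ = Elt.res _ ⟨i, _⟩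
    simp only [Elt.res, Equiv.symm_apply_apply, fpMap_left_fst]
  | succ l =>
    simp only [pTup, Fin.succ_succAbove_succ, Fin.cons_succ]
    show Elt.res _ ⟨_, _⟩ = Elt.res _ (Elt.res _ ⟨_, _⟩)
    simp only [Elt.res, Equiv.symm_apply_apply]
    rw [← Category.assoc, fpMap_left_snd, Category.assoc, ← Over.comp_left, Pi.lift_π]

end Fib

/-- the differential as a linear map -/
def dd (n : ℕ) : (∀ a : Fin (n + 1) → ι, Rg (inter Y n a)) →ₗ[Γ(U.left, ⊤)] (∀ a : Fin (n + 2) → ι, Rg (inter Y (n + 1) a)) :=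
  LinearMap.pi fun a => ∑ j : Fin (n + 2), ((-1 : ℤ) ^ (j : ℕ)) •
      ((rgMap (proj Y n a j)).toLinearMap ∘ₗ LinearMap.proj (fun k => a (j.succAbove k)))

theorem xv_d_eq (n : ℕ) (y' : ((EtCech.cechComplex Y (EtCoh.Ga X).obj).X n : AddCommGrpCat.{u + 1}))
    (y : ∀ a : Fin (n + 1) → ι, Rg (inter Y n a)) (hy' : ∀ a, xv Y n y' a = y a) (a : Fin (n + 2) → ι) :
    xv Y (n + 1) ((EtCech.cechComplex Y (EtCoh.Ga X).obj).d n (n + 1) y') a = dd Y n y a := by
  rw [← ev_univ, ev_d, dd, LinearMap.pi_apply, LinearMap.sum_apply]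
  refine Finset.sum_congr rfl fun j _ => ?_
  rw [← univTup_res, ev_res, ev_univ, hy', LinearMap.smul_apply]
  rfl

variable {Y}

theorem ga_cechAcyclic : CechAcyclic affCov' (EtCoh.Ga X) := by
  intro U ι Y hY q
  classical
  haveI : IsAffine U.left := hY.1
  haveI : Finite ι := hY.2.1
  haveI hAff : ∀ i, IsAffine (Y i).left.left := hY.2.2.2.1
  haveI hAffI : ∀ n a, IsAffine (inter Y n a).left.left := isAffine_inter hY
  refine HomologicalComplex.ExactAt.isZero_homology ?_
  rw [HomologicalComplex.exactAt_iff' _ q (q + 1) (q + 2) (CochainComplex.prev_nat_succ q) (CochainComplex.next ℕ (q + 1)),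
    ShortComplex.ab_exact_iff]
  intro x hx
  haveI : ∀ i, Module.Flat Γ(U.left, ⊤) (Rg (Y i)) := fun i => by
    haveI : Etale (Y i).hom.left := etale_left (Y i).hom
    exact HasRingHomProperty.appTop (P := @Flat) (Y i).hom.left inferInstance
  have hcov : ∀ m : PrimeSpectrum Γ(U.left, ⊤), ∃ (i : ι) (P : PrimeSpectrum (Rg (Y i))),
      P.comap (algebraMap Γ(U.left, ⊤) (Rg (Y i))) = m := fun m => by
    obtain ⟨i, w, hw⟩ := exists_point_over Y hY.2.2.2.2 (U.left.isoSpec.inv m)
    refine ⟨i, (Y i).left.left.isoSpec.hom w, ?_⟩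
    have h1 := congrArg (fun (k : (Y i).left.left ⟶ Spec Γ(U.left, ⊤)) => k w)
      (Scheme.isoSpec_hom_naturality (Y i).hom.left)
    simp only [Scheme.Hom.comp_apply] at h1
    refine h1.trans ?_
    change U.left.isoSpec.hom ((Y i).hom.left w) = m
    rw [hw, ← Scheme.Hom.comp_apply, Iso.inv_hom_id]
    rfl
  suffices (fun a => xv Y (q + 1) x a) ∈ LinearMap.range (dd Y q) by
    obtain ⟨y, hy⟩ := this
    obtain ⟨y', hy'⟩ := (val_bijective Y (EtCoh.Ga X).obj q).2 fun a => ULift.up (y a)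
    refine ⟨y', (val_bijective Y (EtCoh.Ga X).obj (q + 1)).1 (funext fun a => ULift.ext _ _ ?_)⟩
    exact (xv_d_eq Y q y' y (fun b => congrArg ULift.down (congrFun hy' b)) a).trans (congrFun hy a)
  refine mem_range_of_forall (fun i => Rg (Y i)) hcov (dd Y q) _ fun i => ?_
  have hb : ∀ b : Fin (q + 1) → ι, ∃ z, fpTens Y i (inter Y q b) z = ev Y (q + 1) x (pTup Y i q b) :=
    fun b => (fpTens_bijective Y i (inter Y q b)).2 _
  choose zc hzc using hb
  obtain ⟨z, hz⟩ := exists_lTensor_proj (B := Rg (Y i)) zc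
  refine ⟨z, piRight_ext fun a => ?_⟩
  apply (fpTens_bijective Y i (inter Y (q + 1) a)).1
  have h0 : ev Y (q + 2) ((EtCech.cechComplex Y (EtCoh.Ga X).obj).d (q + 1) (q + 2) x) (pTup Y i (q + 1) a) = 0 := by
    rw [show (EtCech.cechComplex Y (EtCoh.Ga X).obj).d (q + 1) (q + 2) x = 0 from hx]
    unfold ev xv
    rw [map_zero]
    exact map_zero _
  rw [ev_d, Fin.sum_univ_succ, pTup_face_zero, ev_res, ev_univ] at h0
  simp only [Fin.val_zero, pow_zero, one_smul, Fin.val_succ, pow_succ, mul_neg, mul_one, neg_smul,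
    Finset.sum_neg_distrib, pTup_face_succ, ev_res, ← hzc] at h0
  rw [← sub_eq_add_neg, sub_eq_zero] at h0
  rw [LinearMap.lTensor_tmul, LinearMap.proj_apply, dd]
  refine (congrArg (fpTens Y i (inter Y (q + 1) a)) (lTensor_pi_sum (M := fun b => Rg (inter Y q b))
    (N := fun b => Rg (inter Y (q + 1) b)) (fun b j k => b (j.succAbove k))
    (fun b j => (rgMap (proj Y q b j)).toLinearMap) (fun j : Fin (q + 2) => ((-1 : ℤ) ^ (j : ℕ))) z a)).trans ?_
  rw [map_sum]
  refine (Finset.sum_congr rfl fun j _ => ?_).trans (h0.symm.trans ?_)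
  · rw [map_zsmul, hz, fpTens_natural]
    rfl
  · simp [fpTens]
    rfl

end Ga

end Groth.Agent.EtCechLib
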