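import Groth.Prelude.Def_EtCech
import Mathlib.Algebra.Category.Grp.Adjunctions
import Mathlib.CategoryTheory.Abelian.FunctorCategory
import Mathlib.CategoryTheory.Abelian.Exact
import Mathlib.Algebra.Homology.ShortComplex.Ab
import Mathlib.Algebra.Category.Grp.Abelian

/-!
# Čech complexes in elements; injective presheaves are Čech acyclic
-/

noncomputable section

set_option autoImplicit false
set_option backward.isDefEq.respectTransparency.types false

universe w v u

open CategoryTheory CategoryTheory.Limits Opposite Simplicial AlgebraicTopology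

namespace Groth.Agent.EtCechLib

theorem map_sum_zsmul {A B : Type*} [AddCommGroup A] [AddCommGroup B] (f : A →+ B) {m : ℕ} (c : Fin m → ℤ)
    (g : Fin m → A) : f (∑ j, c j • g j) = ∑ j, c j • f (g j) := by
  simp [map_zsmul]

variable {C : Type u} [Category.{v} C] {U : C} [HasFiniteProducts (Over U)] {ι : Type w}
  (Uf : ι → Over U) (P : Cᵒᵖ ⥤ AddCommGrpCat.{w})

/-- intersection of the members indexed by `a` -/
abbrev inter (n : ℕ) (a : Fin (n + 1) → ι) : Over U := ∏ᶜ fun k => Uf (a k)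

/-- the `j`-th projection between intersections -/
abbrev proj (n : ℕ) (a : Fin (n + 2) → ι) (j : Fin (n + 2)) :
    inter Uf (n + 1) a ⟶ inter Uf n (fun k => a (j.succAbove k)) :=
  Pi.lift fun k => Pi.π (fun k => Uf (a k)) (j.succAbove k)

/-- components of cochains -/
def val (n : ℕ) (a : Fin (n + 1) → ι) :
    ((EtCech.cechComplex Uf P).X n : AddCommGrpCat.{w}) →+ P.obj (op (inter Uf n a).left) :=
  (Pi.π (fun a : Fin (n + 1) → ι => P.obj (op (inter Uf n a).left)) a).hom

theorem val_bijective (n : ℕ) :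
    Function.Bijective (fun (x : ((EtCech.cechComplex Uf P).X n : AddCommGrpCat.{w})) a => val Uf P n a x) := by
  let f := fun a : Fin (n + 1) → ι => P.obj (op (inter Uf n a).left)
  constructor
  · intro x y h
    exact Concrete.limit_ext _ x y fun ⟨a⟩ => congrFun h a
  · intro g
    let h : ∀ a, AddCommGrpCat.of (∀ a, f a) ⟶ f a := fun a =>
      AddCommGrpCat.ofHom (Pi.evalAddMonoidHom (fun a => f a) a)
    exact ⟨Pi.lift (f := f) h g, funext fun a => ConcreteCategory.congr_hom (Pi.lift_π (f := f) h a) g⟩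

theorem val_d (n : ℕ) (a : Fin (n + 2) → ι) (x : ((EtCech.cechComplex Uf P).X n : AddCommGrpCat.{w})) :
    val Uf P (n + 1) a ((EtCech.cechComplex Uf P).d n (n + 1) x) =
      ∑ j : Fin (n + 2), ((-1 : ℤ) ^ (j : ℕ)) •
        P.map (proj Uf n a j).left.op (val Uf P n (fun k => a (j.succAbove k)) x) := by
  let K := ((FormalCoproduct.cosimplicialObjectFunctor (A := AddCommGrpCat.{w})
    (FormalCoproduct.mk _ Uf).cech).obj ((Over.forget U).op ⋙ P))
  have hd : (EtCech.cechComplex Uf P).d n (n + 1) = AlternatingCofaceMapComplex.objD K n :=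
    CochainComplex.of_d (fun n => K.obj ⦋n⦌) (AlternatingCofaceMapComplex.objD K) n
  rw [hd]
  have hs : AlternatingCofaceMapComplex.objD K n = ∑ j : Fin (n + 2), (-1 : ℤ) ^ (j : ℕ) • K.δ j := rfl
  rw [hs]
  have hsum : (∑ j : Fin (n + 2), (-1 : ℤ) ^ (j : ℕ) • K.δ j).hom x =
      ∑ j : Fin (n + 2), (-1 : ℤ) ^ (j : ℕ) • (K.δ j).hom x := by
    refine (DFunLike.congr_fun (map_sum AddCommGrpCat.homAddEquiv (fun j : Fin (n + 2) => (-1 : ℤ) ^ (j : ℕ) • K.δ j)
      Finset.univ) x).trans ?_
    exact (AddMonoidHom.finsetSum_apply _ _ x).trans (Finset.sum_congr rfl fun _ _ => rfl)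
  refine (congrArg (val Uf P (n + 1) a) hsum).trans ?_
  refine (map_sum_zsmul (val Uf P (n + 1) a) _ _).trans ?_
  refine Finset.sum_congr rfl fun j _ => ?_
  refine congrArg (((-1 : ℤ) ^ (j : ℕ)) • ·) ?_
  exact ConcreteCategory.congr_hom (Pi.lift_π
    (f := fun a : Fin (n + 2) → ι => P.obj (op (inter Uf (n + 1) a).left))
    (fun a => Pi.π (fun a : Fin (n + 1) → ι => P.obj (op (inter Uf n a).left)) (fun k => a (j.succAbove k)) ≫
      P.map (proj Uf n a j).left.op) a) x

variable [LocallySmall.{w} C]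

/-- a map to a member of the family -/
abbrev Elt (V : C) : Type w := Σ i, Shrink.{w} (V ⟶ (Uf i).left)

variable {Uf}

/-- its composite to `U` -/
abbrev Elt.toU {V : C} (e : Elt Uf V) : V ⟶ U := (equivShrink _).symm e.2 ≫ (Uf e.1).hom

/-- restriction -/
abbrev Elt.res {V W : C} (k : W ⟶ V) (e : Elt Uf V) : Elt Uf W :=
  ⟨e.1, equivShrink _ (k ≫ (equivShrink _).symm e.2)⟩

theorem Elt.toU_res {V W : C} (k : W ⟶ V) (e : Elt Uf V) : (e.res k).toU = k ≫ e.toU := by
  simp [Elt.toU, Elt.res]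

/-- tuples of maps to members, equalized in `U` -/
abbrev Tup (Uf : ι → Over U) (n : ℕ) (V : C) : Type w :=
  {p : Fin (n + 1) → Elt Uf V // ∀ k l, (p k).toU = (p l).toU}

abbrev Tup.res {n : ℕ} {V W : C} (k : W ⟶ V) (p : Tup Uf n V) : Tup Uf n W :=
  ⟨fun l => (p.1 l).res k, fun l l' => by rw [Elt.toU_res, Elt.toU_res, p.2 l l']⟩

abbrev Tup.face {n : ℕ} {V : C} (p : Tup Uf (n + 1) V) (j : Fin (n + 2)) : Tup Uf n V :=
  ⟨fun l => p.1 (j.succAbove l), fun _ _ => p.2 _ _⟩

variable (Uf) in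
/-- the tuples as a presheaf -/
def tupFunctor (n : ℕ) : Cᵒᵖ ⥤ Type w where
  obj V := Tup Uf n V.unop
  map k := ↾Tup.res k.unop
  map_id V := by
    refine ConcreteCategory.hom_ext _ _ fun p => ?_
    exact Subtype.ext (funext fun l => Sigma.ext rfl (heq_of_eq (by simp)))
  map_comp k k' := by
    refine ConcreteCategory.hom_ext _ _ fun p => ?_
    exact Subtype.ext (funext fun l => Sigma.ext rfl (heq_of_eq (by simp)))

variable (Uf) in
/-- the free presheaf on tuples -/
def Kf (n : ℕ) : Cᵒᵖ ⥤ AddCommGrpCat.{w} := tupFunctor Uf n ⋙ AddCommGrpCat.free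

/-- a basis element -/
abbrev bas {n : ℕ} {V : C} (p : Tup Uf n V) : (Kf Uf n).obj (op V) := FreeAbelianGroup.of p

theorem bas_res {n : ℕ} {V W : C} (k : W ⟶ V) (p : Tup Uf n V) :
    (Kf Uf n).map k.op (bas p) = bas (p.res k) := FreeAbelianGroup.map_of_apply p

variable (Uf) in
/-- the boundary -/
def bd (n : ℕ) : Kf Uf (n + 1) ⟶ Kf Uf n where
  app V := AddCommGrpCat.ofHom (FreeAbelianGroup.lift fun p : Tup Uf (n + 1) V.unop =>
    ∑ j : Fin (n + 2), ((-1 : ℤ) ^ (j : ℕ)) • bas (p.face j))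
  naturality V W k := by
    refine AddCommGrpCat.hom_ext (FreeAbelianGroup.lift_ext _ _ fun (p : Tup Uf (n + 1) V.unop) => ?_)
    show FreeAbelianGroup.lift _ ((Kf Uf (n + 1)).map k.unop.op (bas p)) =
      (Kf Uf n).map k.unop.op (FreeAbelianGroup.lift _ (bas p))
    rw [bas_res, FreeAbelianGroup.lift_apply_of, FreeAbelianGroup.lift_apply_of]
    refine Eq.trans ?_ (map_sum_zsmul ((Kf Uf n).map k.unop.op).hom _ _).symm
    exact Finset.sum_congr rfl fun j _ => congrArg (((-1 : ℤ) ^ (j : ℕ)) • ·) (bas_res k.unop (p.face j)).symm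

theorem bd_bas {n : ℕ} {V : C} (p : Tup Uf (n + 1) V) :
    (bd Uf n).app (op V) (bas p) = ∑ j : Fin (n + 2), ((-1 : ℤ) ^ (j : ℕ)) • bas (p.face j) :=
  FreeAbelianGroup.lift_apply_of _ _

/-- cone: prepend a chosen element over the same map to `U` -/
def cone {n : ℕ} {V : C} (p : Tup Uf n V) : Tup Uf (n + 1) V :=
  haveI : Nonempty (Elt Uf V) := ⟨p.1 0⟩
  ⟨Fin.cons (Function.invFun (Elt.toU (Uf := Uf) (V := V)) (p.1 0).toU) p.1, fun k l => by
    have h0 : (Function.invFun (Elt.toU (Uf := Uf) (V := V)) (p.1 0).toU).toU = (p.1 0).toU :=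
      Function.invFun_eq ⟨p.1 0, rfl⟩
    have h : ∀ k, ((Fin.cons (Function.invFun (Elt.toU (Uf := Uf) (V := V)) (p.1 0).toU) p.1 :
        Fin (n + 2) → Elt Uf V) k).toU = (p.1 0).toU := fun k => by
      induction k using Fin.cases with
      | zero => simpa using h0
      | succ k => simpa using p.2 k 0
    rw [h, h]⟩

theorem cone_face_zero {n : ℕ} {V : C} (p : Tup Uf n V) : (cone p).face 0 = p :=
  Subtype.ext (funext fun l => by simp [cone, Tup.face])

theorem cone_face_succ {n : ℕ} {V : C} (p : Tup Uf (n + 1) V) (j : Fin (n + 2)) :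
    (cone p).face j.succ = cone (p.face j) := by
  refine Subtype.ext (funext fun l => ?_)
  induction l using Fin.cases with
  | zero => simp [cone, Tup.face, p.2 (j.succAbove 0) 0]
  | succ l => simp [cone, Tup.face, Fin.succ_succAbove_succ]

/-- cycles are boundaries -/
theorem eq_bd {n : ℕ} {V : C} (z : (Kf Uf (n + 1)).obj (op V)) (hz : (bd Uf n).app (op V) z = 0) :
    ∃ y, (bd Uf (n + 1)).app (op V) y = z := by
  let h : ∀ m, (Kf Uf m).obj (op V) →+ (Kf Uf (m + 1)).obj (op V) := fun m =>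
    FreeAbelianGroup.lift fun p => bas (cone p)
  have key : ((bd Uf (n + 1)).app (op V)).hom.comp (h (n + 1)) + (h n).comp ((bd Uf n).app (op V)).hom =
      AddMonoidHom.id _ := by
    refine FreeAbelianGroup.lift_ext _ _ fun (p : Tup Uf (n + 1) V) => ?_
    show (bd Uf (n + 1)).app (op V) (h (n + 1) (bas p)) + h n ((bd Uf n).app (op V) (bas p)) = bas p
    rw [show h (n + 1) (bas p) = bas (cone p) from FreeAbelianGroup.lift_apply_of _ _, bd_bas, bd_bas,
      Fin.sum_univ_succ, map_sum, cone_face_zero]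
    simp only [Fin.val_zero, pow_zero, one_smul, Fin.val_succ, cone_face_succ, map_zsmul]
    rw [add_assoc, ← Finset.sum_add_distrib]
    refine add_eq_left.mpr (Finset.sum_eq_zero fun j _ => ?_)
    rw [show h n (bas (p.face j)) = bas (cone (p.face j)) from FreeAbelianGroup.lift_apply_of _ _, ← add_smul,
      pow_succ]
    simp
  refine ⟨h (n + 1) z, ?_⟩
  have := DFunLike.congr_fun key z
  simpa [hz] using this

/-- index of a tuple -/
abbrev Tup.idx {n : ℕ} {V : C} (p : Tup Uf n V) : Fin (n + 1) → ι := fun l => (p.1 l).1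

/-- the map of a tuple to the intersection -/
def Tup.lift {n : ℕ} {V : C} (p : Tup Uf n V) : V ⟶ (inter Uf n p.idx).left :=
  (Pi.lift (P := Over.mk (p.1 0).toU) fun l =>
    Over.homMk ((equivShrink _).symm (p.1 l).2) (p.2 l 0)).left

theorem Tup.lift_π {n : ℕ} {V : C} (p : Tup Uf n V) (l : Fin (n + 1)) :
    p.lift ≫ (Pi.π (fun k => Uf (p.idx k)) l).left = (equivShrink _).symm (p.1 l).2 := by
  rw [Tup.lift, ← Over.comp_left, Pi.lift_π]
  rfl

theorem lift_unique {n : ℕ} {V : C} (p : Tup Uf n V) (m : V ⟶ (inter Uf n p.idx).left)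
    (hm : ∀ l, m ≫ (Pi.π (fun k => Uf (p.idx k)) l).left = (equivShrink _).symm (p.1 l).2) : m = p.lift := by
  have hU : m ≫ (inter Uf n p.idx).hom = (p.1 0).toU := by
    rw [← Over.w (Pi.π (fun k => Uf (p.idx k)) 0), ← Category.assoc, hm]
  have : (Over.homMk m hU : Over.mk (p.1 0).toU ⟶ inter Uf n p.idx) =
      Pi.lift (P := Over.mk (p.1 0).toU) fun l => Over.homMk ((equivShrink _).symm (p.1 l).2) (p.2 l 0) :=
    Pi.hom_ext _ _ fun l => Over.OverMorphism.ext (by
      rw [Pi.lift_π, Over.comp_left]; exact hm l)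
  exact congrArg CommaMorphism.left this

theorem lift_res {n : ℕ} {V W : C} (k : W ⟶ V) (p : Tup Uf n V) :
    (p.res k).lift = k ≫ p.lift :=
  (lift_unique (p.res k) (k ≫ p.lift) fun l => by
    rw [Category.assoc]
    exact (congrArg (k ≫ ·) (p.lift_π l)).trans ((equivShrink _).symm_apply_apply _).symm).symm

theorem lift_face {n : ℕ} {V : C} (p : Tup Uf (n + 1) V) (j : Fin (n + 2)) :
    (p.face j).lift = p.lift ≫ (proj Uf n p.idx j).left :=
  (lift_unique (p.face j) _ fun l => by
    rw [Category.assoc, ← Over.comp_left, Pi.lift_π]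
    exact p.lift_π (j.succAbove l)).symm

variable (Uf) in
/-- the universal tuple on an intersection -/
abbrev univTup (n : ℕ) (a : Fin (n + 1) → ι) : Tup Uf n (inter Uf n a).left :=
  ⟨fun l => ⟨a l, equivShrink _ (Pi.π (fun k => Uf (a k)) l).left⟩, fun k l => by
    simp [Elt.toU]⟩

theorem lift_univTup (n : ℕ) (a : Fin (n + 1) → ι) : (univTup Uf n a).lift = 𝟙 _ :=
  (lift_unique (univTup Uf n a) (𝟙 _) fun l =>
    (Category.id_comp _).trans ((equivShrink _).symm_apply_apply _).symm).symm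

theorem univTup_res (n : ℕ) (a : Fin (n + 2) → ι) (j : Fin (n + 2)) :
    (univTup Uf n fun k => a (j.succAbove k)).res (proj Uf n a j).left = (univTup Uf (n + 1) a).face j := by
  refine Subtype.ext (funext fun l => Sigma.ext rfl (heq_of_eq ?_))
  show equivShrink _ ((proj Uf n a j).left ≫ (equivShrink _).symm (equivShrink _ _)) = equivShrink _ _
  rw [Equiv.symm_apply_apply, ← Over.comp_left, Pi.lift_π]

/-- cochains give maps out of free presheaves -/
def ofCochain (n : ℕ) (x : ((EtCech.cechComplex Uf P).X n : AddCommGrpCat.{w})) : Kf Uf n ⟶ P where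
  app V := AddCommGrpCat.ofHom (FreeAbelianGroup.lift fun p : Tup Uf n V.unop =>
    P.map p.lift.op (val Uf P n p.idx x))
  naturality V W k := by
    refine AddCommGrpCat.hom_ext (FreeAbelianGroup.lift_ext _ _ fun (p : Tup Uf n V.unop) => ?_)
    show FreeAbelianGroup.lift _ ((Kf Uf n).map k.unop.op (bas p)) =
      P.map k.unop.op (FreeAbelianGroup.lift _ (bas p))
    rw [bas_res, FreeAbelianGroup.lift_apply_of, FreeAbelianGroup.lift_apply_of, lift_res, op_comp, P.map_comp,
      ConcreteCategory.comp_apply]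

theorem ofCochain_bas (n : ℕ) (x : ((EtCech.cechComplex Uf P).X n : AddCommGrpCat.{w})) {V : C} (p : Tup Uf n V) :
    (ofCochain P n x).app (op V) (bas p) = P.map p.lift.op (val Uf P n p.idx x) :=
  FreeAbelianGroup.lift_apply_of _ _

variable (Uf) in
/-- injective presheaves have no higher Čech cohomology -/
theorem isZero_cechH_of_injective [Injective P] (p : ℕ) : IsZero (EtCech.cechH Uf P (p + 1)) := by
  refine HomologicalComplex.ExactAt.isZero_homology ?_
  rw [HomologicalComplex.exactAt_iff' _ p (p + 1) (p + 2) (CochainComplex.prev_nat_succ p) (CochainComplex.next ℕ (p + 1)),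
    ShortComplex.ab_exact_iff]
  intro x hx
  let φ := ofCochain (Uf := Uf) P (p + 1) x
  have h1 : ∀ (V : Cᵒᵖ) y, φ.app V ((bd Uf (p + 1)).app V y) = 0 := by
    intro V
    suffices (φ.app V).hom.comp ((bd Uf (p + 1)).app V).hom = 0 from fun y => DFunLike.congr_fun this y
    refine FreeAbelianGroup.lift_ext _ _ fun (q : Tup Uf (p + 2) V.unop) => ?_
    show φ.app (op V.unop) ((bd Uf (p + 1)).app (op V.unop) (bas q)) = (0 : P.obj (op V.unop))
    rw [bd_bas, map_sum]
    have h2 : P.map q.lift.op (val Uf P (p + 2) q.idx ((EtCech.cechComplex Uf P).d (p + 1) (p + 2) x)) = 0 := by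
      rw [show (EtCech.cechComplex Uf P).d (p + 1) (p + 2) x = 0 from hx, map_zero, map_zero]
    rw [val_d, map_sum] at h2
    rw [← h2]
    refine Finset.sum_congr rfl fun j _ => ?_
    rw [map_zsmul, map_zsmul, ofCochain_bas, lift_face, op_comp, P.map_comp, ConcreteCategory.comp_apply]
  have hker : kernel.ι (bd Uf p) ≫ φ = 0 := by
    refine NatTrans.ext (funext fun V => AddCommGrpCat.hom_ext (AddMonoidHom.ext fun z => ?_))
    have hz : (bd Uf p).app (op V.unop) ((kernel.ι (bd Uf p)).app V z) = 0 :=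
      ConcreteCategory.congr_hom (congrArg (fun t => t.app V) (kernel.condition (bd Uf p))) z
    obtain ⟨y, hy⟩ := eq_bd _ hz
    show φ.app V ((kernel.ι (bd Uf p)).app V z) = 0
    exact (congrArg (φ.app V) hy.symm).trans (h1 V y)
  let φ' := cokernel.desc (kernel.ι (bd Uf p)) φ hker
  let ψ : Kf Uf p ⟶ P := Injective.factorThru φ' (Abelian.factorThruCoimage (bd Uf p))
  have hψ : bd Uf p ≫ ψ = φ := by
    conv_lhs => rw [← Abelian.coimage.fac (bd Uf p), Category.assoc]
    rw [Injective.comp_factorThru]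
    exact cokernel.π_desc _ _ _
  obtain ⟨y, hy⟩ := (val_bijective Uf P p).2 fun a => ψ.app (op (inter Uf p a).left) (bas (univTup Uf p a))
  refine ⟨y, (val_bijective Uf P (p + 1)).1 (funext fun a => ?_)⟩
  show val Uf P (p + 1) a ((EtCech.cechComplex Uf P).d p (p + 1) y) = val Uf P (p + 1) a x
  rw [val_d]
  have h3 : φ.app (op (inter Uf (p + 1) a).left) (bas (univTup Uf (p + 1) a)) = val Uf P (p + 1) a x := by
    rw [ofCochain_bas, lift_univTup, op_id, P.map_id]
    rfl
  rw [← h3, ← hψ, NatTrans.comp_app, ConcreteCategory.comp_apply, bd_bas, map_sum]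
  refine Finset.sum_congr rfl fun j _ => ?_
  rw [map_zsmul]
  congr 1
  rw [show val Uf P p (fun k => a (j.succAbove k)) y = ψ.app _ (bas (univTup Uf p _)) from congrFun hy _,
    ← NatTrans.naturality_apply ψ (proj Uf p a j).left.op, bas_res, univTup_res]

end Groth.Agent.EtCechLib
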