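import Groth.Agent.EtCechLib.Torsion
import Groth.Agent.CompDerived.Basic

/-!
# Higher direct images along qcqs morphisms of Čech acyclic and of torsion sheaves
-/

noncomputable section

set_option autoImplicit false
set_option backward.isDefEq.respectTransparency.types false

universe u

open CategoryTheory CategoryTheory.Limits AlgebraicGeometry Opposite CategoryTheory.Abelian

namespace Groth.Agent.EtCechLib

open Groth.Agent.EtSh

variable {X Y : Scheme.{u}} (f : X ⟶ Y) [QuasiCompact f] [QuasiSeparated f]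

theorem qcqs_bc {V : Y.Etale} (hV : IsAffine V.left) : (EtCoh.bc f).obj V ∈ qcqsObj (X := X) := by
  haveI := hV
  haveI : QuasiCompact (pullback.fst V.hom f) := MorphismProperty.pullback_fst _ _ ‹QuasiCompact f›
  haveI : QuasiSeparated (pullback.fst V.hom f) := MorphismProperty.pullback_fst _ _ ‹QuasiSeparated f›
  haveI : CompactSpace ((𝟭 Scheme).obj V.left) := (inferInstance : CompactSpace V.left)
  haveI : QuasiSeparatedSpace ((𝟭 Scheme).obj V.left) := (inferInstance : QuasiSeparatedSpace V.left)
  exact ⟨(QuasiCompact.compactSpace_of_compactSpace (pullback.fst V.hom f) : CompactSpace (pullback V.hom f : Scheme.{u})),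
    (quasiSeparatedSpace_of_quasiSeparated (pullback.fst V.hom f) : QuasiSeparatedSpace (pullback V.hom f : Scheme.{u}))⟩

/-- an affine étale neighbourhood of a point of an étale object -/
theorem exists_affine_over {U : Y.Etale} (x : U.left) :
    ∃ (A : Y.Etale) (g : A ⟶ U) (z : A.left), IsAffine A.left ∧ g.left.base z = x := by
  obtain ⟨Ω, _, _, ξ, hξ⟩ := exists_geometric_point (U.hom.base x)
  obtain ⟨t, ht⟩ := exists_fib (ξ := ξ) x (Set.eq_of_mem_singleton (hξ.le ⟨default, rfl⟩)).symm
  obtain ⟨A, e, ta, hA, hta⟩ := exists_affine_nbhd t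
  exact ⟨A, e, fpt ta, hA, by rw [← ht, ← hta]; rfl⟩

theorem epi_push {S : ShortComplex (EtCoh.Ab X)} (hS : S.ShortExact) (h : CechAcyclic affCov S.X₁) :
    Epi ((EtCoh.push f).map S.g) := by
  haveI : Sheaf.IsLocallySurjective ((EtCoh.push f).map S.g) := ⟨fun {U} s => (mem_topology_iff _).2 fun x => by
    obtain ⟨A, g, z, hA, hz⟩ := exists_affine_over x
    refine ⟨A, g, z, ?_, hz⟩
    exact isCovSys_affCov.surjective hS h (qcqs_bc f hA) (((EtCoh.push f).obj S.X₃).obj.map g.op s)⟩
  exact (Sheaf.isLocallySurjective_iff_epi' (A := AddCommGrpCat.{u + 1}) ((EtCoh.push f).map S.g)).1 ‹_›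

/-- Čech acyclic sheaves are acyclic for direct images along qcqs morphisms -/
theorem isZero_Rpush_of_cechAcyclic [EtCoh.BCCont f] : ∀ (k : ℕ) (F : EtCoh.Ab X), CechAcyclic affCov F →
    IsZero ((EtCoh.Rpush f (k + 1)).obj F) := by
  haveI : PreservesLimitsOfSize.{0, 0} (EtCoh.push f) := (EtCoh.pullPushAdj f).rightAdjoint_preservesLimits
  haveI : PreservesFiniteLimits (EtCoh.push f) := PreservesLimitsOfSize.preservesFiniteLimits.{0, 0} _
  intro k
  induction k with
  | zero =>
    intro F hF
    let S := ShortComplex.mk (Injective.ι F) (cokernel.π (Injective.ι F)) (cokernel.condition _)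
    have hS : S.ShortExact :=
      { exact := S.exact_of_g_is_cokernel (cokernelIsCokernel _)
        mono_f := inferInstanceAs (Mono (Injective.ι F))
        epi_g := inferInstanceAs (Epi (cokernel.π (Injective.ι F))) }
    haveI : Injective S.X₂ := inferInstanceAs (Injective (Injective.under F))
    obtain ⟨π, w, hπ, hex⟩ := CompDerived.exists_cokernel (EtCoh.push f) hS
      (fun j => (EtCoh.push f).isZero_rightDerived_obj_injective_succ j S.X₂)
    haveI := epi_push f hS hF
    haveI := hπ
    exact IsZero.of_epi_eq_zero π ((cancel_epi ((EtCoh.push f).map S.g)).1 (w.trans comp_zero.symm))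
  | succ k ih =>
    intro F hF
    let S := ShortComplex.mk (Injective.ι F) (cokernel.π (Injective.ι F)) (cokernel.condition _)
    have hS : S.ShortExact :=
      { exact := S.exact_of_g_is_cokernel (cokernelIsCokernel _)
        mono_f := inferInstanceAs (Mono (Injective.ι F))
        epi_g := inferInstanceAs (Epi (cokernel.π (Injective.ι F))) }
    haveI : Injective S.X₂ := inferInstanceAs (Injective (Injective.under F))
    exact (ih S.X₃ (isCovSys_affCov.quot hS hF (cechAcyclic_of_injective S.X₂))).of_iso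
      (CompDerived.nonempty_shiftIso (EtCoh.push f) hS
        (fun j => (EtCoh.push f).isZero_rightDerived_obj_injective_succ j S.X₂) k).some.symm

/-- direct images of torsion sheaves are torsion -/
theorem isTorsion_push {F : EtCoh.Ab X} (hF : EtCoh.IsTorsion F) : EtCoh.IsTorsion ((EtCoh.push f).obj F) := by
  intro U s x
  obtain ⟨A, g, z, hA, hz⟩ := exists_affine_over x
  haveI := (qcqs_bc f hA).1
  exact ⟨A, g, ⟨z, hz⟩, GermTors.isOfFinAddOrder (I := F) (U := (EtCoh.bc f).obj A) (germTors_of_isTorsion hF _)⟩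

omit [QuasiCompact f] [QuasiSeparated f] in
theorem isTorsion_of_iso {F G : EtCoh.Ab Y} (e : F ≅ G) (hF : EtCoh.IsTorsion F) : EtCoh.IsTorsion G := by
  intro U s x
  obtain ⟨V, g, hv, hn⟩ := hF U (e.inv.hom.app (op U) s) x
  refine ⟨V, g, hv, ?_⟩
  have h2 : e.hom.hom.app (op V) (F.obj.map g.op (e.inv.hom.app (op U) s)) = G.obj.map g.op s := by
    rw [NatTrans.naturality_apply e.hom.hom g.op]
    congr 1
    exact ConcreteCategory.congr_hom (congrArg (fun k => k.hom.app (op U)) e.inv_hom_id) s
  rw [← h2]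
  exact (e.hom.hom.app (op V)).hom.isOfFinAddOrder hn

omit [QuasiCompact f] [QuasiSeparated f] in
theorem isTorsion_of_epi {F G : EtCoh.Ab Y} (π : F ⟶ G) [Epi π] (hF : EtCoh.IsTorsion F) : EtCoh.IsTorsion G := by
  intro U s x
  obtain ⟨W, g, w, r, hw, hr⟩ := exists_lift_of_epi π U s x
  obtain ⟨V, k, ⟨v, hv⟩, hn⟩ := hF W r w
  refine ⟨V, k ≫ g, ⟨v, by rw [← hw, ← hv]; rfl⟩, ?_⟩
  have : G.obj.map (k ≫ g).op s = π.hom.app (op V) (F.obj.map k.op r) := by
    rw [op_comp, G.obj.map_comp, ConcreteCategory.comp_apply, ← hr, NatTrans.naturality_apply π.hom k.op r]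
  rw [this]
  exact (π.hom.app (op V)).hom.isOfFinAddOrder hn

end Groth.Agent.EtCechLib
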